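import Cfsg.Agent.H478.SporConway
import Cfsg.Agent.CpAutMSeven.ZeroComps
import Cfsg.Agent.BpMon.BSeven
import Cfsg.Agent.FastGrp
import Cfsg.Agent.Prune
set_option linter.all false
prune_inst 0x7f00000000000000000000000000000000000000000000000000000000000000000000000000000000000000000000000000000000000000000000000000000000000000000000000000000000000000003fffffffffffffffffffffffffffbeffbdffffffff
open scoped Cfsg.Agent.FastGrp

/-!
# `Core` for the Baby Monster (helper478)

An element `y` of order 7 of the Monster which commutes with a 2A-involution has `C(y) / ⟨y⟩ ≅ He`: its centralizer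
contains no element of order 47. Hence elements of orders 7 and 47 of the Baby Monster do not commute.
-/

set_option autoImplicit false
set_option maxRecDepth 100000

namespace Cfsg.Agent.H478.SporBaby

open Cfsg Cfsg.Agent.BpTab Cfsg.Agent.CpAutBFive Cfsg.Agent.MFive
open Cfsg.Agent.LThreeMB (fr Zx XX KChart.Cent KChart.pi KChart.chart)
open Cfsg.Agent.MonsterU Cfsg.Agent.MonsterU.Ch
open Cfsg.Agent.MonsterX Cfsg.Agent.MonsterX.MainBasic Cfsg.Agent.MonsterN Cfsg.Agent.MonsterP
open Cfsg.Agent.MonsterU.Lam2 (L2)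
open Cfsg.Spor (Co1)
open Subgroup (centralizer zpowers mem_centralizer_singleton_iff center)

theorem card_conj {X : Type*} [Group X] (g y : X) :
    Nat.card ↥(centralizer ({g⁻¹ * y * g} : Set X)) = Nat.card ↥(centralizer ({y} : Set X)) := by
  have h1 : centralizer ({y} : Set X) = (centralizer ({g⁻¹ * y * g} : Set X)).map (MulAut.conj g).toMonoidHom := by
    ext x
    rw [Subgroup.mem_map_equiv, mem_centralizer_singleton_iff, mem_centralizer_singleton_iff,
      MulAut.conj_symm_apply]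
    constructor
    · intro h
      calc g⁻¹ * x * g * (g⁻¹ * y * g) = g⁻¹ * (x * y) * g := by group
        _ = g⁻¹ * (y * x) * g := by rw [h]
        _ = g⁻¹ * y * g * (g⁻¹ * x * g) := by group
    · intro h
      calc x * y = g * (g⁻¹ * x * g * (g⁻¹ * y * g)) * g⁻¹ := by group
        _ = g * (g⁻¹ * y * g * (g⁻¹ * x * g)) * g⁻¹ := by rw [h]
        _ = y * x := by group
  rw [h1]
  exact Nat.card_congr (((centralizer ({g⁻¹ * y * g} : Set X)).equivMapOfInjective _ (MulAut.conj g).injective).toEquiv)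

theorem card_cent {v y : ↥InstData.M.G} (hv : IsConj BpSpor.BCover.t v) (hy : orderOf y = 7) (hyv : y * v = v * y) :
    Nat.card ↥(centralizer ({y} : Set ↥InstData.M.G)) = 4030387200 * 7 := by
  have := MFive.Row.finite_model
  have h := KChart.chart KDone.lft MFive.Row.hc
  have hp : Nat.Prime 7 := by norm_num
  have ht := RowB.orderOf_t hv
  have hnt := RowB.not_conj hv
  have he : 2 ∣ Nat.card ↥(centralizer ({y} : Set ↥InstData.M.G)) := by
    have h1 : orderOf (⟨v, mem_centralizer_singleton_iff.2 hyv.symm⟩ : ↥(centralizer ({y} : Set ↥InstData.M.G))) = 2 := by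
      rw [← Subgroup.orderOf_coe]
      exact ht
    rw [← h1]
    exact orderOf_dvd_natCard _
  obtain ⟨g, hg⟩ := MSevenT.hex7 y hy he
  have h1 : (g⁻¹ * y * g) * KDone.K.z = KDone.K.z * (g⁻¹ * y * g) := by
    calc (g⁻¹ * y * g) * KDone.K.z = g⁻¹ * (y * (g * KDone.K.z * g⁻¹)) * g := by group
      _ = g⁻¹ * ((g * KDone.K.z * g⁻¹) * y) * g := by rw [hg]
      _ = KDone.K.z * (g⁻¹ * y * g) := by group
  obtain ⟨x', hx'⟩ : ∃ x' : centralizer ({KDone.K.z} : Set ↥InstData.M.G), (x' : ↥InstData.M.G) = g⁻¹ * y * g :=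
    ⟨⟨g⁻¹ * y * g, mem_centralizer_singleton_iff.2 h1⟩, rfl⟩
  have h7 : orderOf (g⁻¹ * y * g) = 7 := by
    have h6 := MulEquiv.orderOf_eq (MulAut.conj g⁻¹) y
    rw [MulAut.conj_apply, inv_inv] at h6
    rw [h6, hy]
  have hx7 : orderOf x' = 7 := by rw [← Subgroup.orderOf_coe, hx', h7]
  have h4 : (x' : ↥InstData.M.G) * (g⁻¹ * v * g) = (g⁻¹ * v * g) * x' := by
    rw [hx']
    calc g⁻¹ * y * g * (g⁻¹ * v * g) = g⁻¹ * (y * v) * g := by group
      _ = g⁻¹ * (v * y) * g := by rw [hyv]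
      _ = _ := by group
  have h5 : orderOf (g⁻¹ * v * g) = 2 := by
    have h6 := MulEquiv.orderOf_eq (MulAut.conj g⁻¹) v
    rw [MulAut.conj_apply, inv_inv] at h6
    rw [h6, ht]
  have hHe : Spor.IsoHe (XX (x' : ↥InstData.M.G)) := by
    rcases CpAutMSeven.Ranks.hranks _ (MFive.orderOf_pi h hp (by decide) hx7) with h8 | h8
    · obtain ⟨d, hd⟩ := BpMon.BSeven.conj_z hx7 h8 h5 h4
      exfalso
      refine hnt (d⁻¹ * g⁻¹) ?_
      calc d⁻¹ * g⁻¹ * v * (d⁻¹ * g⁻¹)⁻¹ = d⁻¹ * (g⁻¹ * v * g) * d := by group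
        _ = KDone.K.z := by rw [← hd]; group
    · exact CpAutMSeven.ZeroComps.heSix x' hx7 h8
  have h9 : Nat.card ↥(centralizer ({(x' : ↥InstData.M.G)} : Set ↥InstData.M.G)) = 4030387200 * 7 := by
    rw [BpRankZero.Seven.card_cent, Subgroup.orderOf_coe, hx7, (BpRankZero.MRow.he_facts hHe).2]
  rw [← h9, hx']
  exact (card_conj g y).symm

theorem ncomm_quot {M : Type*} [Group M] [Finite M] {t : M} {X : Type*} [Group X]
    (h2 : Nat.card ↥(center ↥(centralizer ({t} : Set M))) = 2)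
    (e : ↥(centralizer ({t} : Set M)) ⧸ center ↥(centralizer ({t} : Set M)) ≃* X) {p q : ℕ} (hp : p.Prime)
    (hq : q.Prime) (hp2 : p ≠ 2) (hq2 : q ≠ 2)
    (h : ∀ x y : M, orderOf x = p → orderOf y = q → y * t = t * y → x * y ≠ y * x) {x y : X}
    (hx : orderOf x = p) (hy : orderOf y = q) : x * y ≠ y * x := by
  intro hc
  obtain ⟨a, b, ha, hb, hab⟩ := SporConway.exists_lifts (Z := center ↥(centralizer ({t} : Set M))) le_rfl h2 hp hq
    hp2 hq2 (x := e.symm x) (y := e.symm y) (by rw [MulEquiv.orderOf_eq, hx])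
    (by rw [MulEquiv.orderOf_eq, hy]) (by rw [← map_mul, hc, map_mul])
  exact h a b (by rw [Subgroup.orderOf_coe, ha]) (by rw [Subgroup.orderOf_coe, hb])
    (mem_centralizer_singleton_iff.1 b.2) (congrArg Subtype.val hab)

/-- elements of orders 47 and 7 of the Baby Monster do not commute -/
theorem ncomm {x y : Spor.BabyMonster} (hx : orderOf x = 47) (hy : orderOf y = 7) : x * y ≠ y * x := by
  have hfin : Finite ↥InstData.M.G := G_finite LitFin.all.hO
  obtain ⟨⟨h1, -, ⟨e⟩⟩, -⟩ := ModelB.fieldsKS LitFin.all KDone.lnk KDone.lft (NodesGrp.prel LitFin.H)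
    (NodesNe.ne LitFin.H) LitFin.conj_ten Cfsg.Agent.S1704.result KDone.lnk.x₀_mem
  obtain ⟨g, hg⟩ := ModelB.exists_conj_t LitFin.all.hG LitFin.all.hR KDone.lnk KDone.lft KDone.lnk.x₀_mem
  refine ncomm_quot h1 e (p := 47) (q := 7) (by norm_num) (by norm_num) (by norm_num) (by norm_num) ?_ hx hy
  intro a b ha hb hbt hab
  have h2 := card_cent (isConj_iff.2 ⟨g, hg⟩) hb hbt
  have h3 : a ∈ centralizer ({b} : Set ↥InstData.M.G) := mem_centralizer_singleton_iff.2 hab
  have h4 := orderOf_dvd_natCard (⟨a, h3⟩ : centralizer ({b} : Set ↥InstData.M.G))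
  rw [Subgroup.orderOf_mk, ha, h2] at h4
  norm_num at h4

open Cfsg.Agent.H518.Dghp Cfsg.Agent.H478.SporCore

theorem b {G : Type*} [Group G] [Finite G] (h : Spor.IsoB G) : Core G := by
  have hN := NotCT.Orders.b h
  obtain ⟨e⟩ := h
  refine core_odd (r := 47) (s := 7) (K := 1) (L := 2) (by norm_num) (by norm_num) (by norm_num) ?_ ?_ ?_ ?_
    (by decide +kernel) ?_ (by decide +kernel)
  · rw [hN]; norm_num
  · rw [hN]; norm_num
  · intro x y hx hy hc
    refine ncomm (x := e x) (y := e y) (by rw [MulEquiv.orderOf_eq, hx]) (by rw [MulEquiv.orderOf_eq, hy]) ?_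
    rw [← map_mul, hc, map_mul]
  · rw [hN]; norm_num
  · rw [hN]; norm_num

end Cfsg.Agent.H478.SporBaby
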