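import Cfsg.Agent.H478.HN3D
import Cfsg.Agent.CpAutHN.Main
import Cfsg.Agent.H478.RadTools_m3
import Cfsg.Agent.FastGrp
import Cfsg.Agent.Prune
set_option linter.all false
prune_inst 0x7f00000000000000000000000000000000000000000000000000000000000000000000000000000000000000000000000000000000000000000000000000000000000000000000000000000000000000003fffffffffffffffffffffffffffbeffbdffffffff
open scoped Cfsg.Agent.FastGrp

/-!
# Radical elements of order three of HN, V: the radical of `C(X1)`; the row (helper478, for S3854)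
-/

set_option autoImplicit false

namespace Cfsg.Agent.H478.HNThree

open Subgroup Cfsg
open Cfsg.Agent Cfsg.Agent.H459.Rad Cfsg.Agent.H839.Rad Cfsg.Agent.SignalizersComponents.ComponentExists
open Cfsg.Agent.CpAutHN
open Cfsg.Agent.CpAutHN.NineAlt
open Cfsg.Agent.CpAutHN.Second
open Cfsg.Agent.CpAutHN.Alt
open Cfsg.Agent.CpAutHN.Tr
open Cfsg.Agent.CpAutHN.Pairs
open Cfsg.Agent.H569.HNThree (card_G finite_G MM ss order_ss S3X3 comm_core index_X3 mk mk_core sg sg_mem)

attribute [local instance] Cfsg.Agent.H569.HNThree.finite_G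

/-- an element of a subgroup of order at most nine whose normalizer has order divisible by `64` -/
theorem exists_inv_comm {H : Type*} [Group H] [Finite H] (T : Subgroup H) (hT : Nat.card T ≤ 9)
    (h64 : 64 ∣ Nat.card ↥(normalizer (T : Set H))) {x : H} (hx : x ∈ T) : ∃ t : H, orderOf t = 2 ∧ x * t = t * x := by
  have : Fact (Nat.Prime 2) := ⟨Nat.prime_two⟩
  let S : Subgroup ↥(normalizer (T : Set H)) := (centralizer ({x} : Set H)).subgroupOf (normalizer (T : Set H))
  have hidx : S.index ≤ 9 := by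
    refine le_trans ?_ hT
    refine Nat.card_le_card_of_injective (fun c : ↥(normalizer (T : Set H)) ⧸ S =>
      (⟨(c.out : H) * x * (c.out : H)⁻¹, (mem_normalizer_iff.1 c.out.2 x).1 hx⟩ : T)) ?_
    intro c d hcd
    have h1 : (c.out : H) * x * (c.out : H)⁻¹ = (d.out : H) * x * (d.out : H)⁻¹ := congrArg Subtype.val hcd
    rw [← QuotientGroup.out_eq' c, ← QuotientGroup.out_eq' d, QuotientGroup.eq, mem_subgroupOf,
      mem_centralizer_singleton_iff]
    change (c.out : H)⁻¹ * (d.out : H) * x = x * ((c.out : H)⁻¹ * (d.out : H))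
    calc (c.out : H)⁻¹ * (d.out : H) * x = (c.out : H)⁻¹ * ((d.out : H) * x * (d.out : H)⁻¹) * (d.out : H) := by group
      _ = (c.out : H)⁻¹ * ((c.out : H) * x * (c.out : H)⁻¹) * (d.out : H) := by rw [h1]
      _ = _ := by group
  have hcard := S.card_mul_index
  have heven : 2 ∣ Nat.card S := by
    by_contra h2
    have h3 : Nat.Coprime 64 (Nat.card S) := by
      rw [show 64 = 2 ^ 6 from rfl]
      exact Nat.Coprime.pow_left 6 ((Nat.Prime.coprime_iff_not_dvd Nat.prime_two).2 h2)
    have h4 : 64 ∣ S.index := h3.dvd_of_dvd_mul_left (by rw [hcard]; exact h64)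
    have h5 := Nat.le_of_dvd (Nat.pos_of_ne_zero S.index_ne_zero_of_finite) h4
    omega
  obtain ⟨t, ht⟩ := exists_prime_orderOf_dvd_card' 2 heven
  refine ⟨((t : ↥(normalizer (T : Set H))) : H), by rw [Subgroup.orderOf_coe, Subgroup.orderOf_coe, ht], ?_⟩
  exact (mem_centralizer_singleton_iff.1 (mem_subgroupOf.1 t.2)).symm

/-- the centralizer of `X1` -/
noncomputable abbrev C1 : Subgroup G := centralizer ({X1} : Set G)

/-- the subgroup `A9` of `C(X1)` -/
noncomputable abbrev L9 : Subgroup C1 := Ψ.range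

theorem L9_card : Nat.card L9 = 181440 := card_range

theorem not_solvable_L9 : ¬ Group.IsSolvable L9 := by
  intro h
  have := simple_range
  have h3 := IsSimpleGroup.comm_iff_isSolvable.2 h
  have h4 := h3 ⟨Ψ a9, ⟨a9, rfl⟩⟩ ⟨Ψ d9, ⟨d9, rfl⟩⟩
  have h5 : Ψ (a9 * d9) = Ψ (d9 * a9) := by
    rw [map_mul, map_mul]
    exact congrArg Subtype.val h4
  exact Cfsg.Agent.CpAutHN.Main.not_comm_A9 (Ψ_inj h5)

theorem rad_inf_L9 : solvableRadical C1 ⊓ L9 = ⊥ := by
  have := simple_range
  have hn : ((solvableRadical C1).subgroupOf L9).Normal := (rad_normal C1).subgroupOf L9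
  rcases hn.eq_bot_or_eq_top with h | h
  · rw [subgroupOf_eq_bot] at h
    exact h.eq_bot
  · exfalso
    rw [subgroupOf_eq_top] at h
    have hs := rad_solvable C1
    exact not_solvable_L9 (Group.isSolvable_of_isSolvable_injective (inclusion_injective h))

theorem card_rad : Nat.card ↥(solvableRadical C1) ∣ 3 ^ 2 * 5 ^ 5 * 11 * 19 := by
  have hn := rad_normal C1
  have h1 : (solvableRadical C1).relIndex (solvableRadical C1 ⊔ L9) = 181440 := by
    rw [relIndex_sup_left, ← inf_relIndex_right, rad_inf_L9, relIndex_bot_left, L9_card]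
  have h2 := relIndex_mul_relIndex ⊥ (solvableRadical C1) (solvableRadical C1 ⊔ L9) bot_le le_sup_left
  rw [relIndex_bot_left, relIndex_bot_left, h1] at h2
  have h3 : Nat.card ↥(solvableRadical C1) * 181440 ∣ 2 ^ 6 * 3 ^ 6 * 5 ^ 6 * 7 * 11 * 19 := by
    rw [h2]
    exact (card_subgroup_dvd_card _).trans card_C_dvd
  have h4 : Nat.card ↥(solvableRadical C1) * 181440 ∣ (3 ^ 2 * 5 ^ 5 * 11 * 19) * 181440 := h3
  exact Nat.dvd_of_mul_dvd_mul_right (by norm_num) h4

/-- **the elements of order three of the radical of `C(X1)` commute with involutions** -/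
theorem exists_inv_X1 {x : C1} (hx : orderOf x = 3) (hr : x ∈ solvableRadical C1) :
    ∃ t : C1, orderOf t = 2 ∧ x * t = t * x := by
  have : Fact (Nat.Prime 3) := ⟨Nat.prime_three⟩
  have hn := rad_normal C1
  -- a Sylow subgroup of the radical
  have hxp : IsPGroup 3 ↥(zpowers (⟨x, hr⟩ : ↥(solvableRadical C1))) :=
    IsPGroup.of_card (n := 1) (by rw [Nat.card_zpowers, Subgroup.orderOf_mk, hx, pow_one])
  obtain ⟨T, hT⟩ := hxp.exists_le_sylow
  have hF := Sylow.normalizer_sup_eq_top (N := solvableRadical C1) T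
  set T' : Subgroup C1 := (T : Subgroup ↥(solvableRadical C1)).map (solvableRadical C1).subtype with hT'
  have hxT : x ∈ T' := ⟨⟨x, hr⟩, hT (mem_zpowers _), rfl⟩
  have hcT : Nat.card T' ≤ 9 := by
    have h1 : Nat.card T' = Nat.card (T : Subgroup ↥(solvableRadical C1)) :=
      (Nat.card_congr ((T : Subgroup ↥(solvableRadical C1)).equivMapOfInjective _
        (solvableRadical C1).subtype_injective).toEquiv).symm
    rw [h1]
    have h2 : Nat.card (T : Subgroup ↥(solvableRadical C1)) ∣ 3 ^ 2 * 5 ^ 5 * 11 * 19 :=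
      (card_subgroup_dvd_card _).trans card_rad
    obtain ⟨n, hn'⟩ := IsPGroup.iff_card.1 T.2
    change Nat.card (T : Subgroup ↥(solvableRadical C1)) = 3 ^ n at hn'
    rw [hn'] at h2 ⊢
    have h3 : 3 ^ n ∣ 3 ^ 2 * (5 ^ 5 * 11 * 19) := by
      rw [show 3 ^ 2 * (5 ^ 5 * 11 * 19) = 3 ^ 2 * 5 ^ 5 * 11 * 19 by norm_num]
      exact h2
    have h4 : 3 ^ n ∣ 3 ^ 2 := (Nat.Coprime.pow_left n (by norm_num : Nat.Coprime 3 (5 ^ 5 * 11 * 19))).dvd_of_dvd_mul_right h3
    exact Nat.le_of_dvd (by norm_num) h4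
  have h64 : 64 ∣ Nat.card ↥(normalizer (T' : Set C1)) := by
    have h1 : 64 ∣ Nat.card C1 := by
      refine dvd_trans ?_ (card_subgroup_dvd_card L9)
      rw [L9_card]
      norm_num
    have h2 : (solvableRadical C1).relIndex (normalizer (T' : Set C1)) * Nat.card ↥(solvableRadical C1) =
        Nat.card C1 := by
      have h3 := relIndex_mul_relIndex ⊥ (solvableRadical C1) ⊤ bot_le le_top
      rw [relIndex_bot_left, relIndex_bot_left, card_top, ← hF, relIndex_sup_right] at h3
      rw [mul_comm]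
      exact h3
    have h4 : 64 ∣ (solvableRadical C1).relIndex (normalizer (T' : Set C1)) := by
      refine Nat.Coprime.dvd_of_dvd_mul_right ?_ (by rw [h2]; exact h1)
      exact Nat.Coprime.coprime_dvd_right card_rad (by norm_num)
    exact h4.trans (index_dvd_card _)
  exact exists_inv_comm T' hcT h64 hxT

/-- **no radical element of order three commutes with `X1`** -/
theorem false_of_comm_X1 {x : G} (hx : orderOf x = 3) (hR : RC (MulAut.conj x)) (h : x * X1 = X1 * x) : False := by
  have hC : C1 ≠ ⊤ := by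
    intro hC
    have h1 : Nat.card C1 ∣ 2 ^ 6 * 3 ^ 6 * 5 ^ 6 * 7 * 11 * 19 := card_C_dvd
    rw [hC, card_top, card_G] at h1
    exact absurd h1 (by norm_num)
  have hxC : x ∈ C1 := mem_centralizer_singleton_iff.2 h
  obtain ⟨t, ht, hc⟩ := exists_inv_X1 (x := ⟨x, hxC⟩) (by rw [Subgroup.orderOf_mk, hx]) (mem_rad hR hC hxC)
  exact false_of_inv hx hR (by rw [Subgroup.orderOf_coe]; exact ht) (congrArg Subtype.val hc)

theorem center_G : center G = ⊥ := by
  apply CpAut.center_eq_bot_of_simple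
  intro h
  apply Cfsg.Agent.CpAutHN.Main.not_comm_A9
  apply ι_inj
  apply Alt.Φ_inj
  rw [map_mul, map_mul, map_mul, map_mul]
  exact h.is_comm.comm _ _

/-- **no radical elements of order three** -/
theorem false_of_rc {x : G} (hx : orderOf x = 3) (hR : RC (MulAut.conj x)) : False := by
  have : Fact (Nat.Prime 3) := ⟨Nat.prime_three⟩
  have hM : MM ≠ ⊤ := by
    intro hM
    have h3 : X3 ∈ center G := mem_center_iff.2 fun g =>
      mem_centralizer_singleton_iff.1 (show g ∈ MM by rw [hM]; exact mem_top g)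
    rw [center_G, mem_bot] at h3
    have h4 := order_X3
    rw [h3, orderOf_one] at h4
    exact absurd h4 (by norm_num)
  obtain ⟨g, hg⟩ := H749.exists_conj_mem MM index_X3 (x := x) ⟨1, by rw [pow_one, ← hx, pow_orderOf_eq_one]⟩
  have hR' := rc_conj hR g
  have hx' : orderOf (g * x * g⁻¹) = 3 := order_conj hx g
  generalize g * x * g⁻¹ = z at hg hR' hx'
  have h1 : (⟨z, hg⟩ : MM) ∈ OO := mem_OO (by rw [Subgroup.orderOf_mk, hx']) (mem_rad hR' hM hg)
  obtain ⟨y, hy, c, hc⟩ := exists_X1 h1
  have hy' : z * (y : G) = (y : G) * z := congrArg Subtype.val hy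
  refine false_of_comm_X1 (x := c * z * c⁻¹) (order_conj hx' c) (rc_conj hR' c) ?_
  rw [← hc]
  calc c * z * c⁻¹ * (c * (y : G) * c⁻¹) = c * (z * (y : G)) * c⁻¹ := by group
    _ = c * ((y : G) * z) * c⁻¹ := by rw [hy']
    _ = _ := by group

open Cfsg.Agent.H959.Rad3 in
theorem irow_model : IRow Spor.HN :=
  IRowInn.irow center_G (fun x hx => Cfsg.Agent.CpAutHN.Main.autInner 3 (by norm_num) (by norm_num) x hx)
    fun _ hx hR _ => false_of_rc hx hR

open Cfsg.Agent.H959.Rad3 in
/-- **the row of HN** -/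
theorem irow_hn {K : Type*} [Group K] [Finite K] [IsSimpleGroup K] (h : Spor.IsoHN K) : IRow K := by
  obtain ⟨e⟩ := h
  exact IRow.congr e irow_model

end Cfsg.Agent.H478.HNThree
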