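import Cfsg.Agent.CpAutHN.Second
import Cfsg.Agent.H569.KleinIso
import Cfsg.Agent.H792.SpHeis_m3
import Cfsg.Agent.S1701
import Cfsg.Agent.H478.RadTools_m3
import Cfsg.Agent.FastGrp
import Cfsg.Agent.Prune
set_option linter.all false

section
prune_inst 0x7f00000000000000000000000000000000000000000000000000000000000000000000000000000000000000000000000000000000000000000000000000000000000000000000000000000000000000003fffffffffffffffffffffffffffbeffbdffffffff

-- part: H569/HNThree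
section
set_option linter.all false
open scoped Cfsg.Agent.FastGrp

/-!
# `FullP 3 HN` (helper569)

`X3` (image of `(0 1 2)(3 4 5)(6 7 8)`) is 3-central (`index_X3`, by the sign argument `false_of_sign`); the four-group
`⟨S3, V3⟩` normalises a Sylow 3-subgroup (`exists_sylow`); every 3-element commuting with an involution is conjugate into
`A12`.
-/

set_option autoImplicit false

namespace Cfsg.Agent.H569.HNThree

open Subgroup Cfsg
open Cfsg.Agent
open Cfsg.Agent.HN.XWords (W0 W0_sq)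
open Cfsg.Agent.KFacts.HN (PP mem_PP ρ φA φB W0_ne A5 comm_AB φB_inj ρ_surj card_PP)
open Cfsg.Agent.KFacts.HN.Classes (inv_class)
open Cfsg.Agent.CpAutHN.LqFacts
open Cfsg.Agent.CpAutHN.PPFacts
open Cfsg.Agent.CpAutHN.Alt
open Cfsg.Agent.CpAutHN.Tr
open Cfsg.Agent.CpAutHN.Pairs
open Equiv.Perm (mem_alternatingGroup)

/-! ### permutations -/

/-- `(0 3 6)(1 4 7)(2 5 8)` -/
def sg : Equiv.Perm (Fin 12) := cy [0, 3, 6] * cy [1, 4, 7] * cy [2, 5, 8]
/-- `(1 2)(4 5)(7 8)(9 10)` -/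
def v3 : Equiv.Perm (Fin 12) := cy [1, 2] * cy [4, 5] * cy [7, 8] * cy [9, 10]
/-- `(0 1 2)(3 4 5)` -/
def ya : Equiv.Perm (Fin 12) := cy [0, 1, 2] * cy [3, 4, 5]

theorem sg_mem : sg ∈ alternatingGroup (Fin 12) := by rw [mem_alternatingGroup]; decide +kernel
theorem v3_mem : v3 ∈ alternatingGroup (Fin 12) := by rw [mem_alternatingGroup]; decide +kernel
theorem ya_mem : ya ∈ alternatingGroup (Fin 12) := by rw [mem_alternatingGroup]; decide +kernel

/-- an element of odd order does not interchange two points -/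
theorem not_swap {a : Equiv.Perm (Fin 12)} (ha : Odd (orderOf a)) {u v : Fin 12} (huv : u ≠ v) (h1 : a u = v)
    (h2 : a v = u) : False := by
  have h3 : ∀ k : ℕ, (a ^ (2 * k)) u = u := by
    intro k
    induction k with
    | zero => rfl
    | succ k ih =>
      rw [show 2 * (k + 1) = 1 + (1 + 2 * k) by ring, pow_add, pow_add, pow_one, Equiv.Perm.mul_apply,
        Equiv.Perm.mul_apply, ih, h1, h2]
  obtain ⟨k, hk⟩ := ha
  have h4 : (a ^ (2 * k + 1)) u = v := by
    rw [show 2 * k + 1 = 1 + 2 * k by ring, pow_add, pow_one, Equiv.Perm.mul_apply, h3, h1]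
  rw [← hk, pow_orderOf_eq_one] at h4
  exact huv h4

theorem apply_comm {a b : Equiv.Perm (Fin 12)} (h : a * b = b * a) (t : Fin 12) : a (b t) = b (a t) := by
  have := congrArg (fun c => c t) h
  simpa only [Equiv.Perm.mul_apply] using this

theorem fix_x3 : ∀ t : Fin 12, x3 t = t → t = 9 ∨ t = 10 ∨ t = 11 := by decide +kernel

/-- **elements of odd order commuting with `x3` commute with `x1`** -/
theorem comm_x1 {a : Equiv.Perm (Fin 12)} (h : a * x3 = x3 * a) (ha : Odd (orderOf a)) : a * x1 = x1 * a := by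
  have h9 : a 9 = 9 ∨ a 9 = 10 ∨ a 9 = 11 := fix_x3 _ (by
    rw [← apply_comm h]; exact congrArg a (by decide +kernel))
  have h10 : a 10 = 9 ∨ a 10 = 10 ∨ a 10 = 11 := fix_x3 _ (by
    rw [← apply_comm h]; exact congrArg a (by decide +kernel))
  have h11 : a 11 = 9 ∨ a 11 = 10 ∨ a 11 = 11 := fix_x3 _ (by
    rw [← apply_comm h]; exact congrArg a (by decide +kernel))
  have n1 : a 9 ≠ a 10 := fun h => absurd (a.injective h) (by decide)
  have n2 : a 9 ≠ a 11 := fun h => absurd (a.injective h) (by decide)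
  have n3 : a 10 ≠ a 11 := fun h => absurd (a.injective h) (by decide)
  -- the points moved by `x3`
  have hmove : ∀ t : Fin 12, x3 t ≠ t → x1 t = t := by decide +kernel
  have key : ∀ t : Fin 12, x3 t ≠ t → a (x1 t) = x1 (a t) := by
    intro t ht
    rw [hmove t ht, hmove (a t) (fun h2 => ht (a.injective (by rw [apply_comm h]; exact h2)))]
  have hx9 : x1 9 = 10 := by decide +kernel
  have hx10 : x1 10 = 11 := by decide +kernel
  have hx11 : x1 11 = 9 := by decide +kernel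
  have hpt : ∀ t : Fin 12, x3 t ≠ t ∨ t = 9 ∨ t = 10 ∨ t = 11 := by decide +kernel
  have main : a 10 = x1 (a 9) ∧ a 11 = x1 (a 10) ∧ a 9 = x1 (a 11) := by
    rcases h9 with e1 | e1 | e1 <;> rcases h10 with e2 | e2 | e2 <;> rcases h11 with e3 | e3 | e3 <;>
      rw [e1, e2] at n1 <;> rw [e1, e3] at n2 <;> rw [e2, e3] at n3 <;>
      first
        | exact absurd rfl n1
        | exact absurd rfl n2
        | exact absurd rfl n3
        | exact (not_swap ha (by decide) e1 e2).elim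
        | exact (not_swap ha (by decide) e1 e3).elim
        | exact (not_swap ha (by decide) e2 e3).elim
        | (rw [e1, e2, e3]; exact ⟨hx9.symm, hx10.symm, hx11.symm⟩)
        | (rw [e1, e2, e3]; exact ⟨hx10.symm, hx11.symm, hx9.symm⟩)
        | (rw [e1, e2, e3]; exact ⟨hx11.symm, hx9.symm, hx10.symm⟩)
  refine Equiv.ext fun t => ?_
  rw [Equiv.Perm.mul_apply, Equiv.Perm.mul_apply]
  rcases hpt t with ht | rfl | rfl | rfl
  · exact key t ht
  · rw [hx9]; exact main.1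
  · rw [hx10]; exact main.2.1
  · rw [hx11]; exact main.2.2

/-- **the centralizer of `y3`, `sg`, `x1`** -/
theorem cent_three {a : Equiv.Perm (Fin 12)} (h1 : a * y3 = y3 * a) (h2 : a * sg = sg * a) (h3 : a * x1 = x1 * a) :
    ∃ i < 3, ∃ j < 3, a = x3 ^ i * x1 ^ j := by
  -- determined by the images of `0` and `9`
  have key : ∀ a b : Equiv.Perm (Fin 12), a * y3 = y3 * a → a * sg = sg * a → a * x1 = x1 * a →
      b * y3 = y3 * b → b * sg = sg * b → b * x1 = x1 * b → a 0 = b 0 → a 9 = b 9 → a = b := by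
    intro a b a1 a2 a3 b1 b2 b3 e0 e9
    have st : ∀ (c : Equiv.Perm (Fin 12)), a * c = c * a → b * c = c * b → ∀ s t : Fin 12, c s = t → a s = b s →
        a t = b t := by
      intro c ac bc s t hst h
      rw [← hst, apply_comm ac, apply_comm bc, h]
    have e1 := st y3 a1 b1 0 1 (by decide +kernel) e0
    have e2 := st y3 a1 b1 1 2 (by decide +kernel) e1
    have e3 := st sg a2 b2 0 3 (by decide +kernel) e0
    have e4 := st sg a2 b2 1 4 (by decide +kernel) e1
    have e5 := st sg a2 b2 2 5 (by decide +kernel) e2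
    have e6 := st sg a2 b2 3 6 (by decide +kernel) e3
    have e7 := st sg a2 b2 4 7 (by decide +kernel) e4
    have e8 := st sg a2 b2 5 8 (by decide +kernel) e5
    have e10 := st x1 a3 b3 9 10 (by decide +kernel) e9
    have e11 := st x1 a3 b3 10 11 (by decide +kernel) e10
    refine Equiv.ext fun t => ?_
    fin_cases t <;> assumption
  have hw : a * (sg * y3 * sg⁻¹) = sg * y3 * sg⁻¹ * a := by
    have h4 : a * sg⁻¹ = sg⁻¹ * a := ((show Commute a sg from h2).inv_right).eq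
    calc a * (sg * y3 * sg⁻¹) = (a * sg) * y3 * sg⁻¹ := by group
      _ = sg * (a * y3) * sg⁻¹ := by rw [h2]; group
      _ = sg * y3 * (a * sg⁻¹) := by rw [h1]; group
      _ = _ := by rw [h4]; group
  have chk0 : ∀ t : Fin 12, (sg * y3 * sg⁻¹) t = t → sg t ≠ t → ∃ i < 3, (x3 ^ i) 0 = t := by decide +kernel
  have chk9 : ∀ t : Fin 12, y3 t = t → sg t = t → ∃ j < 3, (x1 ^ j) 9 = t := by decide +kernel
  obtain ⟨i, hi, hi0⟩ := chk0 (a 0) (by
    rw [← apply_comm hw]; exact congrArg a (by decide +kernel)) (fun h => by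
    rw [← apply_comm h2] at h
    exact absurd (a.injective h) (by decide +kernel))
  obtain ⟨j, hj, hj9⟩ := chk9 (a 9) (by
    rw [← apply_comm h1]; exact congrArg a (by decide +kernel)) (by
    rw [← apply_comm h2]; exact congrArg a (by decide +kernel))
  refine ⟨i, hi, j, hj, key a (x3 ^ i * x1 ^ j) h1 h2 h3 ?_ ?_ ?_ ?_ ?_⟩
  · have c1 : Commute x3 y3 := show x3 * y3 = y3 * x3 by decide +kernel
    have c2 : Commute x1 y3 := show x1 * y3 = y3 * x1 by decide +kernel
    exact ((c1.pow_left i).mul_left (c2.pow_left j)).eq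
  · have c1 : Commute x3 sg := show x3 * sg = sg * x3 by decide +kernel
    have c2 : Commute x1 sg := show x1 * sg = sg * x1 by decide +kernel
    exact ((c1.pow_left i).mul_left (c2.pow_left j)).eq
  · have c1 : Commute x3 x1 := show x3 * x1 = x1 * x3 by decide +kernel
    exact ((c1.pow_left i).mul_left ((Commute.refl x1).pow_left j)).eq
  · have : ∀ j < 3, (x1 ^ j) 0 = 0 := by decide +kernel
    rw [Equiv.Perm.mul_apply, this j hj, hi0]
  · have : ∀ i < 3, ∀ j < 3, (x3 ^ i) ((x1 ^ j) 9) = (x1 ^ j) 9 := by decide +kernel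
    rw [Equiv.Perm.mul_apply, this i hi j hj, hj9]

/-- `|C(x3)| = 972` in `S12` -/
theorem card_cent_x3 : Nat.card ↥(centralizer ({x3} : Set (Equiv.Perm (Fin 12)))) = 972 := by
  have hc : x3.cycleType = {3, 3, 3} := by decide +kernel
  have h := Equiv.Perm.nat_card_centralizer x3
  rw [hc] at h
  rw [h]
  decide +kernel

/-! ### the centralizer of `X3` -/

/-- the centralizer of `X3` -/
noncomputable abbrev MM : Subgroup G := centralizer ({X3} : Set G)

theorem S3X3 : S3 * X3 = X3 * S3 := _root_.Cfsg.Agent.CpAutHN.Pairs.comm_of s3_mem x3_mem (by decide +kernel)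

/-- `S3` in `C(X3)` -/
noncomputable def ss : MM := ⟨S3, mem_centralizer_singleton_iff.2 S3X3⟩

theorem order_ss : orderOf ss = 2 := by rw [← Subgroup.orderOf_coe]; exact order_S3

theorem conj_Φ {f g h : Equiv.Perm (Fin 12)} (hf : f ∈ alternatingGroup (Fin 12)) (hg : g ∈ alternatingGroup (Fin 12))
    (hh : h ∈ alternatingGroup (Fin 12)) (e : f * g * f⁻¹ = h) : Φ ⟨f, hf⟩ * Φ ⟨g, hg⟩ * (Φ ⟨f, hf⟩)⁻¹ = Φ ⟨h, hh⟩ := by
  rw [← map_mul, ← map_inv, ← map_mul]
  exact congrArg _ (Subtype.ext e)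

theorem inv_Φ {f g : Equiv.Perm (Fin 12)} (hf : f ∈ alternatingGroup (Fin 12)) (hg : g ∈ alternatingGroup (Fin 12))
    (e : f * g * f⁻¹ = g⁻¹) : Φ ⟨f, hf⟩ * Φ ⟨g, hg⟩ * (Φ ⟨f, hf⟩)⁻¹ = (Φ ⟨g, hg⟩)⁻¹ := by
  rw [← map_mul, ← map_inv, ← map_mul, ← map_inv]
  exact congrArg _ (Subtype.ext e)

theorem iso_ss (g : MM) (h : g * ss * g⁻¹ * ss = ss * (g * ss * g⁻¹)) : g * ss * g⁻¹ = ss := by
  apply Subtype.ext
  have h2 : orderOf (g * ss * g⁻¹) = 2 := by
    rw [← order_ss]
    exact MulEquiv.orderOf_eq (MulAut.conj g) ss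
  exact t1_x3.unique (by rw [Subgroup.orderOf_coe]; exact h2) (mem_centralizer_singleton_iff.1 (g * ss * g⁻¹).2)
    (congrArg Subtype.val h)

/-- `S3` is central modulo `O(C(X3))` -/
theorem comm_core [Finite G] (g : MM) : ss * g * ss⁻¹ * g⁻¹ ∈ pPrimeCore 2 MM :=
  KleinIso.comm_mem_core order_ss iso_ss g

section
open Cfsg.Agent.HN Cfsg.Agent.HN.Pres Cfsg.Agent.HN.P1408 Cfsg.Agent.HN.H0Basic Cfsg.Agent.HN.XMat
open Cfsg.Agent.HN.XStruct Cfsg.Agent.HN.XWords Cfsg.Agent.HN.XQuot Cfsg.Agent.HN.XInst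
open Cfsg.Agent.KFacts.HN

theorem mem_ker_W0 {v : PP} (h : (v : Cfsg.Spor.HN) = W0) : v ∈ ρ.ker := by
  rw [mem_ker_iff]
  refine ⟨0, by norm_num, true, ?_⟩
  rw [h, show r Q 0 = 1 from Bas.r_zero, one_mul]
  rfl

end

/-- a square root of `S3` in `C(X3)` -/
theorem exists_sqrt [Finite G] : ∃ g : MM, g * g = ss := by
  obtain ⟨c, hc, hcs, hρ⟩ := t1_x3
  have h3 : orderOf (⟨c * X3 * c⁻¹, hc⟩ : PP) = 3 := order_sub hc (order_conj order_X3 c)
  -- an involution of `A5`
  obtain ⟨b, hb1, hb2⟩ : ∃ b : A5, b ≠ 1 ∧ b * b = 1 := by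
    refine ⟨⟨Equiv.swap 0 1 * Equiv.swap 2 3, by rw [mem_alternatingGroup]; decide +kernel⟩, ?_, ?_⟩
    · intro h
      have := congrArg Subtype.val h
      exact absurd this (by decide +kernel)
    · apply Subtype.ext
      change (Equiv.swap 0 1 * Equiv.swap 2 3 : Equiv.Perm (Fin 5)) * (Equiv.swap 0 1 * Equiv.swap 2 3) = 1
      decide +kernel
  obtain ⟨w, hw⟩ := ρ_surj (φB b)
  obtain ⟨q, hq, hqw⟩ := CpAutTh.RankOne.exists_comm Nat.prime_two Nat.prime_three (by norm_num) ρ isPGroup_ker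
    (g := w) h3 (by rw [hw, hρ, comm_AB])
  have hρq : ρ (q * w) = φB b := by rw [map_mul, (MonoidHom.mem_ker).1 hq, one_mul, hw]
  generalize hv : q * w = v at hqw hρq
  -- `v` is a 2-element
  have hv2 : v * v ∈ ρ.ker := by
    rw [MonoidHom.mem_ker, map_mul, hρq, ← map_mul, hb2, map_one]
  obtain ⟨k, hk⟩ := isPGroup_ker ⟨v * v, hv2⟩
  have hk' : v ^ 2 ^ (k + 1) = 1 := by
    have h4 : (v * v) ^ 2 ^ k = 1 := congrArg Subtype.val hk
    rw [← pow_two, ← pow_mul, ← pow_succ'] at h4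
    exact h4
  have hne : v ≠ 1 := by
    rintro rfl
    rw [map_one] at hρq
    exact hb1 (φB_inj (by rw [map_one, ← hρq]))
  -- the least such exponent
  have hex : ∃ n : ℕ, v ^ 2 ^ n = 1 := ⟨_, hk'⟩
  classical
  obtain ⟨n, hn, hmin⟩ : ∃ n : ℕ, v ^ 2 ^ n = 1 ∧ ∀ m < n, v ^ 2 ^ m ≠ 1 :=
    ⟨Nat.find hex, Nat.find_spec hex, fun m hm => Nat.find_min hex hm⟩
  have hcomm : ∀ m : ℕ, v ^ m * ⟨c * X3 * c⁻¹, hc⟩ = ⟨c * X3 * c⁻¹, hc⟩ * v ^ m := fun m =>
    ((show Commute v ⟨c * X3 * c⁻¹, hc⟩ from hqw).pow_left m).eq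
  obtain _ | _ | n := n
  · exact absurd (by simpa using hn) hne
  · exfalso
    have h4 := only_W0 (v := v) hρ (by rw [← pow_two]; simpa only [_root_.zero_add, _root_.pow_one] using hn) hqw
    rcases h4 with h4 | h4
    · exact hne (Subtype.ext h4)
    · have h5 : v ∈ ρ.ker := mem_ker_W0 h4
      rw [MonoidHom.mem_ker, hρq] at h5
      exact hb1 (φB_inj (by rw [map_one, ← h5]))
  · have h4 := only_W0 (v := v ^ 2 ^ (n + 1)) hρ (by
      rw [← pow_add, ← two_mul, ← pow_succ']; exact hn) (hcomm _)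
    have h5 : ((v ^ 2 ^ (n + 1) : PP) : G) = W0 := by
      rcases h4 with h4 | h4
      · exact absurd (Subtype.ext h4) (hmin (n + 1) (by omega))
      · exact h4
    -- the square root
    have h6 : v ^ 2 ^ n * v ^ 2 ^ n = v ^ 2 ^ (n + 1) := by rw [← pow_add, ← two_mul, ← pow_succ']
    have h7 : ((v ^ 2 ^ n : PP) : G) * (c * X3 * c⁻¹) = c * X3 * c⁻¹ * ((v ^ 2 ^ n : PP) : G) :=
      congrArg Subtype.val (hcomm (2 ^ n))
    have h8 : ((v ^ 2 ^ n : PP) : G) * ((v ^ 2 ^ n : PP) : G) = W0 := by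
      rw [← h5, ← h6, Subgroup.coe_mul]
    generalize ((v ^ 2 ^ n : PP) : G) = y at h7 h8
    refine ⟨⟨c⁻¹ * y * c, ?_⟩, Subtype.ext ?_⟩
    · rw [mem_centralizer_singleton_iff]
      calc c⁻¹ * y * c * X3 = c⁻¹ * (y * (c * X3 * c⁻¹)) * c := by group
        _ = c⁻¹ * (c * X3 * c⁻¹ * y) * c := by rw [h7]
        _ = _ := by group
    · change c⁻¹ * y * c * (c⁻¹ * y * c) = S3
      calc c⁻¹ * y * c * (c⁻¹ * y * c) = c⁻¹ * (y * y) * c := by group
        _ = c⁻¹ * (c * S3 * c⁻¹) * c := by rw [h8, hcs]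
        _ = _ := by group

/-! ### the index of the centralizer of `X3` -/

theorem card_G : Nat.card G = 273030912000000 := Cfsg.Agent.S1701.result.2

instance finite_G : Finite G := Nat.finite_of_card_ne_zero (by rw [card_G]; norm_num)

/-- the centralizer of `x3` in `A12` -/
noncomputable abbrev C12 : Subgroup A12 := centralizer ({(⟨x3, x3_mem⟩ : A12)} : Set A12)

theorem card_C12 : Nat.card ↥C12 ∣ 972 ∧ 972 ∣ Nat.card ↥C12 * 2 := by
  have h1 : Nat.card ↥C12 = Nat.card ↥(centralizer ({x3} : Set (Equiv.Perm (Fin 12))) ⊓ alternatingGroup (Fin 12)) := by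
    have h2 : C12 = (centralizer ({x3} : Set (Equiv.Perm (Fin 12)))).subgroupOf (alternatingGroup (Fin 12)) := by
      ext y
      rw [mem_centralizer_singleton_iff, mem_subgroupOf, mem_centralizer_singleton_iff]
      exact Subtype.ext_iff
    rw [h2, ← inf_subgroupOf_right]
    exact Nat.card_congr (subgroupOfEquivOfLe inf_le_right).toEquiv
  have h3 := relIndex_mul_relIndex ⊥ (centralizer ({x3} : Set (Equiv.Perm (Fin 12))) ⊓ alternatingGroup (Fin 12))
    (centralizer ({x3} : Set (Equiv.Perm (Fin 12)))) bot_le inf_le_left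
  rw [relIndex_bot_left, relIndex_bot_left, card_cent_x3, inf_comm, inf_relIndex_right] at h3
  rw [h1, inf_comm]
  have h4 : (alternatingGroup (Fin 12)).relIndex (centralizer ({x3} : Set (Equiv.Perm (Fin 12)))) ∣ 2 := by
    have h5 : (alternatingGroup (Fin 12)).index = 2 := alternatingGroup.index_eq_two
    rw [← h5]
    exact relIndex_dvd_index_of_normal _ _
  exact ⟨⟨_, h3.symm⟩, by rw [← h3]; exact Nat.mul_dvd_mul_left _ h4⟩

/-- the image of `C12` -/
noncomputable def K12 : Subgroup MM := (C12.map Φ).subgroupOf MM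

theorem C12_le : C12.map Φ ≤ MM := by
  rintro _ ⟨a, ha, rfl⟩
  rw [mem_centralizer_singleton_iff]
  rw [SetLike.mem_coe, mem_centralizer_singleton_iff] at ha
  change Φ a * Φ _ = Φ _ * Φ a
  rw [← map_mul, ha, map_mul]

theorem card_K12 : Nat.card ↥K12 = Nat.card ↥C12 := by
  rw [K12, Nat.card_congr (subgroupOfEquivOfLe C12_le).toEquiv]
  exact (Nat.card_congr (C12.equivMapOfInjective Φ Φ_inj).toEquiv).symm

theorem mem_K12 {m : MM} : m ∈ K12 ↔ ∃ (a : Equiv.Perm (Fin 12)) (ha : a ∈ alternatingGroup (Fin 12)),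
    a * x3 = x3 * a ∧ Φ ⟨a, ha⟩ = (m : G) := by
  rw [K12, mem_subgroupOf, mem_map]
  constructor
  · rintro ⟨a, ha, ham⟩
    exact ⟨a, a.2, (congrArg Subtype.val (mem_centralizer_singleton_iff.1 ha) :), ham⟩
  · rintro ⟨a, ha, hc, ham⟩
    exact ⟨⟨a, ha⟩, mem_centralizer_singleton_iff.2 (Subtype.ext hc), ham⟩

/-- elements of `MM` given by permutations -/
noncomputable def mk (a : Equiv.Perm (Fin 12)) (ha : a ∈ alternatingGroup (Fin 12)) (h : a * x3 = x3 * a) : MM :=
  ⟨Φ ⟨a, ha⟩, C12_le ⟨⟨a, ha⟩, mem_centralizer_singleton_iff.2 (Subtype.ext h), rfl⟩⟩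

theorem mk_mem (a : Equiv.Perm (Fin 12)) (ha : a ∈ alternatingGroup (Fin 12)) (h : a * x3 = x3 * a) :
    mk a ha h ∈ K12 := mem_K12.2 ⟨a, ha, h, rfl⟩

theorem order_mk (a : Equiv.Perm (Fin 12)) (ha : a ∈ alternatingGroup (Fin 12)) (h : a * x3 = x3 * a) :
    orderOf (mk a ha h) = orderOf a := by
  rw [← Subgroup.orderOf_coe]
  change orderOf (Φ ⟨a, ha⟩) = _
  rw [orderOf_injective Φ Φ_inj, ← Subgroup.orderOf_coe]

theorem mk_core (a : Equiv.Perm (Fin 12)) (ha : a ∈ alternatingGroup (Fin 12)) (h : a * x3 = x3 * a)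
    (h1 : a * a * a = 1) (h2 : s3 * a * s3⁻¹ = a⁻¹) : mk a ha h ∈ pPrimeCore 2 MM := by
  refine KleinIso.mem_core_of_inverted comm_core ?_ (Subtype.ext (inv_Φ s3_mem ha h2))
  rw [order_mk]
  have h3 : orderOf a ∣ 3 := orderOf_dvd_of_pow_eq_one (by rw [← h1, pow_succ, pow_two])
  exact Odd.of_dvd_nat (by decide) h3

/-- **`X3` is 3-central** -/
theorem index_X3 : ¬ 3 ∣ MM.index := by
  intro h3
  have : Fact (Nat.Prime 3) := ⟨by norm_num⟩
  have hN : (pPrimeCore 2 MM).Normal := Lib.Cores.pPrimeCore_normal 2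
  -- the index of `K12`
  have hK : ¬ 3 ∣ K12.index := by
    rintro ⟨i, hi⟩
    obtain ⟨j, hj⟩ := h3
    obtain ⟨k, hk⟩ := card_C12.2
    have h1 := K12.card_mul_index
    have h2 := MM.card_mul_index
    rw [card_G, ← h1, card_K12, hi, hj] at h2
    have h4 : 972 * k * (9 * i * j) = 2 * 273030912000000 := by
      rw [← hk, ← h2]; ring
    have h5 : 8748 * (k * i * j) = 546061824000000 := by
      calc 8748 * (k * i * j) = 972 * k * (9 * i * j) := by ring
        _ = _ := by rw [h4]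
    have h6 : (8748 : ℕ) ∣ 546061824000000 := ⟨_, h5.symm⟩
    exact absurd h6 (by norm_num)
  have hQ : IsPGroup 3 ↥(pPrimeCore 2 MM ⊓ K12) := by
    have h1 : Nat.card ↥(pPrimeCore 2 MM ⊓ K12) ∣ 972 :=
      ((Subgroup.card_dvd_of_le inf_le_right).trans (by rw [card_K12])).trans card_C12.1
    have h2 : Odd (Nat.card ↥(pPrimeCore 2 MM ⊓ K12)) :=
      Odd.of_dvd_nat KleinIso.odd_core (Subgroup.card_dvd_of_le inf_le_left)
    have h4 : Nat.card ↥(pPrimeCore 2 MM ⊓ K12) ∣ 3 ^ 5 := by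
      have h5 : Nat.Coprime (Nat.card ↥(pPrimeCore 2 MM ⊓ K12)) 4 := by
        rw [show (4 : ℕ) = 2 ^ 2 by norm_num]
        exact (Nat.coprime_two_right.2 h2).pow_right 2
      rw [show (972 : ℕ) = 4 * 3 ^ 5 by norm_num] at h1
      exact h5.dvd_of_dvd_mul_left h1
    obtain ⟨n, -, hn⟩ := (Nat.dvd_prime_pow (by norm_num)).1 h4
    exact IsPGroup.of_card hn
  obtain ⟨g, hg⟩ := exists_sqrt
  have hy3 : y3 * x3 = x3 * y3 := by decide +kernel
  have hsg : sg * x3 = x3 * sg := by decide +kernel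
  have hx1 : x1 * x3 = x3 * x1 := by decide +kernel
  have hs3 : s3 * x3 = x3 * s3 := by decide +kernel
  have my3 : mk y3 y3_mem hy3 ∈ pPrimeCore 2 MM := mk_core _ _ _ (by decide +kernel) (by decide +kernel)
  have msg : mk sg sg_mem hsg ∈ pPrimeCore 2 MM := mk_core _ _ _ (by decide +kernel) (by decide +kernel)
  have mx1 : mk x1 x1_mem hx1 ∈ pPrimeCore 2 MM := mk_core _ _ _ (by decide +kernel) (by decide +kernel)
  have hinv1 : s3 * x1 * s3⁻¹ = x1⁻¹ := by decide +kernel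
  -- injectivity
  have hcomm : ∀ {a b : Equiv.Perm (Fin 12)} (ha : a ∈ alternatingGroup (Fin 12)) (hb : b ∈ alternatingGroup (Fin 12)),
      Φ ⟨a, ha⟩ * Φ ⟨b, hb⟩ = Φ ⟨b, hb⟩ * Φ ⟨a, ha⟩ → a * b = b * a := by
    intro a b ha hb h
    rw [← map_mul, ← map_mul] at h
    exact congrArg Subtype.val (Φ_inj h)
  refine KleinIso.false_of_sign (p := 3) (pPrimeCore 2 MM) K12 KleinIso.odd_core hK hQ
    (X := ⟨X3, mem_centralizer_singleton_iff.2 rfl⟩) (e := mk x1 x1_mem hx1) (s := ss) (g := g) ?_ mx1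
    (mk_mem _ _ _) ?_ ?_ ?_ (mem_K12.2 ⟨s3, s3_mem, hs3, rfl⟩) (Subtype.ext (inv_Φ s3_mem x1_mem hinv1)) hg
  · intro m
    exact Subtype.ext (mem_centralizer_singleton_iff.1 m.2)
  · rintro q ⟨hqN, hqK⟩
    obtain ⟨a, ha, hax, haq⟩ := mem_K12.1 hqK
    have h1 : Odd (orderOf a) := by
      have h2 : orderOf (⟨q, hqN⟩ : pPrimeCore 2 MM) ∣ Nat.card ↥(pPrimeCore 2 MM) := _root_.orderOf_dvd_natCard _
      rw [← Subgroup.orderOf_coe, ← Subgroup.orderOf_coe] at h2
      change orderOf (q : G) ∣ _ at h2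
      rw [← haq, orderOf_injective Φ Φ_inj, ← Subgroup.orderOf_coe] at h2
      exact Odd.of_dvd_nat KleinIso.odd_core h2
    have h3 := comm_x1 hax h1
    apply Subtype.ext
    change (q : G) * Φ _ = Φ _ * (q : G)
    rw [← haq, ← map_mul, ← map_mul]
    exact congrArg _ (Subtype.ext h3)
  · intro h
    obtain ⟨k, hk⟩ := mem_zpowers_iff.1 h
    have h1 : (X3 : G) ^ k = Φ ⟨x1, x1_mem⟩ * Φ ⟨x1, x1_mem⟩ := congrArg Subtype.val hk
    rw [X3, ← map_zpow, ← map_mul] at h1
    have h2 : x3 ^ k = x1 * x1 := congrArg Subtype.val (Φ_inj h1)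
    have h4 : (x3 ^ k) 9 = 9 := Equiv.Perm.zpow_apply_eq_self_of_apply_eq_self (by decide +kernel) k
    rw [h2] at h4
    exact absurd h4 (by decide +kernel)
  · rintro c ⟨hcN, hcK⟩ hc
    obtain ⟨a, ha, hax, hac⟩ := mem_K12.1 hcK
    have key : ∀ (b : Equiv.Perm (Fin 12)) (hb : b ∈ alternatingGroup (Fin 12)) (hbx : b * x3 = x3 * b),
        mk b hb hbx ∈ pPrimeCore 2 MM → a * b = b * a := by
      intro b hb hbx hbN
      have h1 := congrArg Subtype.val (hc _ ⟨hbN, mk_mem b hb hbx⟩)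
      change Φ ⟨b, hb⟩ * (c : G) = (c : G) * Φ ⟨b, hb⟩ at h1
      rw [← hac] at h1
      exact (hcomm hb ha h1).symm
    obtain ⟨i, hi, j, hj, haij⟩ := cent_three (key _ _ _ my3) (key _ _ _ msg) (key _ _ _ mx1)
    have hcc : (c : G) = X3 ^ i * Φ ⟨x1, x1_mem⟩ ^ j := by
      rw [← hac, X3, ← map_pow, ← map_pow, ← map_mul]
      exact congrArg _ (Subtype.ext haij)
    have h3 : (Φ ⟨x1, x1_mem⟩ : G) ^ 2 = (Φ ⟨x1, x1_mem⟩)⁻¹ := by
      rw [← map_pow, ← map_inv]
      exact congrArg _ (Subtype.ext (by change x1 ^ 2 = x1⁻¹; decide +kernel))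
    interval_cases j
    · left
      refine ⟨i, Subtype.ext ?_⟩
      rw [hcc, pow_zero, mul_one, zpow_natCast]
      rfl
    · right; left
      refine ⟨i, Subtype.ext ?_⟩
      rw [hcc, pow_one, zpow_natCast]
      rfl
    · right; right
      refine ⟨i, Subtype.ext ?_⟩
      rw [hcc, h3, zpow_natCast]
      rfl

/-! ### the four-group -/

/-- the image of `v3` -/
noncomputable def V3 : G := Φ ⟨v3, v3_mem⟩
/-- the image of `ya` -/
noncomputable def YA : G := Φ ⟨ya, ya_mem⟩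

theorem order_YA : orderOf YA = 3 := orderOf_three ya_mem (by decide +kernel) (by decide +kernel)
theorem order_V3 : orderOf V3 = 2 := orderOf_two v3_mem (by decide +kernel) (by decide +kernel)

theorem comm_YX : YA * X3 = X3 * YA := _root_.Cfsg.Agent.CpAutHN.Pairs.comm_of ya_mem x3_mem (by decide +kernel)
theorem comm_SY : S3 * YA = YA * S3 := _root_.Cfsg.Agent.CpAutHN.Pairs.comm_of s3_mem ya_mem (by decide +kernel)
theorem comm_SV : S3 * V3 = V3 * S3 := _root_.Cfsg.Agent.CpAutHN.Pairs.comm_of s3_mem v3_mem (by decide +kernel)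
theorem inv_VX : V3 * X3 * V3⁻¹ = X3⁻¹ := inv_Φ v3_mem x3_mem (by decide +kernel)
theorem inv_VY : V3 * YA * V3⁻¹ = YA⁻¹ := inv_Φ v3_mem ya_mem (by decide +kernel)

/-- the subgroup of order 9 of `C(S3)` -/
noncomputable def D9 : Subgroup G := zpowers YA ⊔ zpowers X3

theorem pow_three_of_order {x : G} (h : orderOf x = 3) : H749.PEl 3 x := ⟨1, by rw [pow_one, ← h, pow_orderOf_eq_one]⟩

theorem isPGroup_D9 : IsPGroup 3 ↥D9 := by
  refine H749.isPGroup_sup_zpowers (pow_three_of_order order_YA) (H749.isPGroup_zpowers (pow_three_of_order order_X3))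
    ?_ ?_
  · intro y hy
    obtain ⟨k, rfl⟩ := mem_zpowers_iff.1 hy
    rw [((show Commute YA X3 from comm_YX).zpow_right k).eq, mul_inv_cancel_right]
    exact zpow_mem (mem_zpowers X3) k
  · intro y hy
    obtain ⟨k, rfl⟩ := mem_zpowers_iff.1 hy
    have h1 : YA⁻¹ * X3 ^ k = X3 ^ k * YA⁻¹ := ((show Commute YA X3 from comm_YX).inv_left.zpow_right k).eq
    rw [h1, inv_mul_cancel_right]
    exact zpow_mem (mem_zpowers X3) k

theorem mem_D9 {d : G} (hd : d ∈ D9) : ∃ i j : ℤ, d = YA ^ i * X3 ^ j := by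
  have h1 : zpowers YA ≤ normalizer ((zpowers X3 : Subgroup G) : Set G) := by
    rw [zpowers_le]
    apply Transfer.FusionBasic.mem_normalizer_of_conj_mem
    intro y hy
    obtain ⟨k, rfl⟩ := mem_zpowers_iff.1 hy
    rw [((show Commute YA X3 from comm_YX).zpow_right k).eq, mul_inv_cancel_right]
    exact zpow_mem (mem_zpowers X3) k
  have h2 : d ∈ ((D9 : Subgroup G) : Set G) := hd
  rw [D9, Subgroup.coe_mul_of_left_le_normalizer_right _ _ h1] at h2
  obtain ⟨a, ha, b, hb, e⟩ := h2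
  obtain ⟨i, rfl⟩ := mem_zpowers_iff.1 ha
  obtain ⟨j, rfl⟩ := mem_zpowers_iff.1 hb
  exact ⟨i, j, e.symm⟩

theorem exp_D9 {d : G} (hd : d ∈ D9) : d ^ 3 = 1 := by
  obtain ⟨i, j, rfl⟩ := mem_D9 hd
  have h1 : Commute (YA ^ i) (X3 ^ j) := ((show Commute YA X3 from comm_YX).zpow_right j).zpow_left i
  have h2 : (YA : G) ^ 3 = 1 := by rw [← order_YA, pow_orderOf_eq_one]
  have h3 : (X3 : G) ^ 3 = 1 := by rw [← order_X3, pow_orderOf_eq_one]
  rw [h1.mul_pow, ← zpow_natCast, ← zpow_natCast, ← zpow_mul, ← zpow_mul, mul_comm i, mul_comm j, zpow_mul, zpow_mul,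
    zpow_natCast, zpow_natCast, h2, h3, one_zpow, one_zpow, one_mul]

theorem nine_dvd : 9 ∣ Nat.card ↥D9 := by
  have : Fact (Nat.Prime 3) := ⟨by norm_num⟩
  obtain ⟨n, hn⟩ := IsPGroup.iff_card.1 isPGroup_D9
  rw [hn]
  have h1 : 3 ≤ Nat.card ↥D9 := by
    rw [← order_X3, ← Nat.card_zpowers]
    exact Nat.card_le_card_of_injective _ (inclusion_injective (show zpowers X3 ≤ D9 from le_sup_right))
  have h2 : Nat.card ↥D9 ≠ 3 := by
    intro h3
    have h4 : zpowers X3 = D9 := by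
      refine Subgroup.eq_of_le_of_card_ge le_sup_right ?_
      rw [h3, Nat.card_zpowers, order_X3]
    have h5 : YA ∈ zpowers X3 := by rw [h4]; exact mem_sup_left (mem_zpowers YA)
    obtain ⟨k, hk⟩ := mem_zpowers_iff.1 h5
    rw [YA, X3, ← map_zpow] at hk
    have h6 : x3 ^ k = ya := congrArg Subtype.val (Φ_inj hk)
    have h7 : (ya ^ 1 * x3 ^ (-k)) = 1 := by rw [← h6]; group
    -- `x3 ^ k` fixes `6` iff it fixes `0`
    have h8 : (x3 ^ k) 0 = 1 := by rw [h6]; decide +kernel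
    have h9 : (x3 ^ k) 6 = 6 := by rw [h6]; decide +kernel
    have h10 : ∃ m < 3, x3 ^ k = x3 ^ m := by
      refine ⟨(k % 3).toNat, ?_, ?_⟩
      · omega
      · have h11 : (x3 : Equiv.Perm (Fin 12)) ^ (3 : ℤ) = 1 := by
          change x3 ^ 3 = 1
          decide +kernel
        have h12 : k = 3 * (k / 3) + ((k % 3).toNat : ℤ) := by omega
        nth_rw 1 [h12]
        rw [zpow_add, zpow_mul, h11, one_zpow, one_mul, zpow_natCast]
    obtain ⟨m, hm, hmk⟩ := h10
    rw [hmk] at h8 h9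
    have h13 : ∀ m < 3, (x3 ^ m) 0 = 1 → (x3 ^ m) 6 = 6 → False := by decide +kernel
    exact h13 m hm h8 h9
  rw [hn] at h1 h2
  rcases n with _ | _ | n
  · norm_num at h1
  · exact absurd rfl h2
  · rw [show n + 1 + 1 = 2 + n by ring, pow_add]
    exact Dvd.intro _ rfl

theorem D9_le : D9 ≤ centralizer ({S3} : Set G) := by
  refine sup_le ?_ ?_
  · rw [zpowers_le, mem_centralizer_singleton_iff]
    exact comm_SY.symm
  · rw [zpowers_le, mem_centralizer_singleton_iff]
    exact S3X3.symm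

theorem D9_le' : D9 ≤ MM := by
  refine sup_le ?_ ?_
  · rw [zpowers_le, mem_centralizer_singleton_iff]
    exact comm_YX
  · rw [zpowers_le, mem_centralizer_singleton_iff]

theorem card_cent_S3 : Nat.card ↥(centralizer ({S3} : Set G)) = 3686400 := by
  rw [card_cent_conj (isConj_W0_of_tr order_S3 tr_s3)]
  have h1 : (centralizer ({W0} : Set G)) = PP := by
    ext y
    rw [mem_centralizer_singleton_iff]
    exact mem_PP.symm
  rw [h1, card_PP]

theorem relIndex_D9 {Z : Subgroup G} (h1 : D9 ≤ Z) (h2 : Z ≤ centralizer ({S3} : Set G)) : ¬ 3 ∣ D9.relIndex Z := by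
  rintro ⟨i, hi⟩
  obtain ⟨j, hj⟩ := nine_dvd
  obtain ⟨k, hk⟩ := Subgroup.card_dvd_of_le h2
  have h3 := relIndex_mul_relIndex ⊥ D9 Z bot_le h1
  rw [relIndex_bot_left, relIndex_bot_left, hi, hj] at h3
  rw [card_cent_S3, ← h3] at hk
  have h4 : (27 : ℕ) ∣ 3686400 := ⟨j * i * k, by rw [hk]; ring⟩
  exact absurd h4 (by norm_num)

/-- **a four-group normalising a Sylow 3-subgroup** -/
theorem exists_sylow : ∃ S : Sylow 3 G, S3 ∈ normalizer ((S : Subgroup G) : Set G) ∧
    V3 ∈ normalizer ((S : Subgroup G) : Set G) := by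
  have : Fact (Nat.Prime 3) := ⟨by norm_num⟩
  have hs2 : S3 * S3 = 1 := by rw [← pow_two, ← order_S3, pow_orderOf_eq_one]
  have hv2 : V3 * V3 = 1 := by rw [← pow_two, ← order_V3, pow_orderOf_eq_one]
  have hV : IsPGroup 2 ↥(zpowers S3 ⊔ zpowers V3) := by
    refine H749.isPGroup_sup_zpowers ⟨1, by rw [pow_one, pow_two, hs2]⟩
      (H749.isPGroup_zpowers ⟨1, by rw [pow_one, pow_two, hv2]⟩) ?_ ?_
    · intro y hy
      obtain ⟨k, rfl⟩ := mem_zpowers_iff.1 hy
      rw [((show Commute S3 V3 from comm_SV).zpow_right k).eq, mul_inv_cancel_right]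
      exact zpow_mem (mem_zpowers V3) k
    · intro y hy
      obtain ⟨k, rfl⟩ := mem_zpowers_iff.1 hy
      have h1 : S3⁻¹ * V3 ^ k = V3 ^ k * S3⁻¹ := ((show Commute S3 V3 from comm_SV).inv_left.zpow_right k).eq
      rw [h1, inv_mul_cancel_right]
      exact zpow_mem (mem_zpowers V3) k
  -- conjugation
  have hconj : ∀ (H : Subgroup G), (∀ d ∈ H, S3 * d * S3⁻¹ ∈ H) → (∀ d ∈ H, V3 * d * V3⁻¹ ∈ H) →
      ∀ u ∈ zpowers S3 ⊔ zpowers V3, ∀ d ∈ H, u * d * u⁻¹ ∈ H := by
    intro H h1 h2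
    have h3 : zpowers S3 ⊔ zpowers V3 ≤ normalizer (H : Set G) := by
      refine sup_le ?_ ?_
      · rw [zpowers_le]
        exact Transfer.FusionBasic.mem_normalizer_of_conj_mem h1
      · rw [zpowers_le]
        exact Transfer.FusionBasic.mem_normalizer_of_conj_mem h2
    exact fun u hu d hd => (mem_normalizer_iff.1 (h3 hu) d).1 hd
  have hmapz : ∀ (H : Subgroup G) (g a : G), g * a * g⁻¹ ∈ H → ∀ d ∈ zpowers a, g * d * g⁻¹ ∈ H := by
    intro H g a h d hd
    obtain ⟨k, rfl⟩ := mem_zpowers_iff.1 hd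
    rw [← conj_zpow]
    exact zpow_mem h k
  have hmaps : ∀ (H : Subgroup G) (g : G), g * YA * g⁻¹ ∈ H → g * X3 * g⁻¹ ∈ H → ∀ d ∈ D9, g * d * g⁻¹ ∈ H := by
    intro H g h1 h2 d hd
    have h3 : D9 ≤ H.comap (MulAut.conj g).toMonoidHom := sup_le (fun x hx => hmapz H g YA h1 x hx)
      fun x hx => hmapz H g X3 h2 x hx
    exact h3 hd
  have eSX : S3 * X3 * S3⁻¹ = X3 := by rw [S3X3, mul_inv_cancel_right]
  have eSY : S3 * YA * S3⁻¹ = YA := by rw [comm_SY, mul_inv_cancel_right]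
  have hNZ : ∀ g ∈ MM, ∃ n ∈ (pPrimeCore 2 ↥MM).map MM.subtype, ∃ c ∈ MM ⊓ centralizer ({S3} : Set G),
      g = n * c := by
    intro g hg
    have h1 := KleinIso.core_sup order_ss comm_core
    have h2 : (⟨g, hg⟩ : MM) ∈ pPrimeCore 2 MM ⊔ centralizer ({ss} : Set MM) := by rw [h1]; exact mem_top _
    have hN : (pPrimeCore 2 MM).Normal := Lib.Cores.pPrimeCore_normal 2
    obtain ⟨n, hn, c, hc, hnc⟩ := mem_sup_of_normal_left.1 h2
    refine ⟨n, ⟨n, hn, rfl⟩, c, ⟨c.2, ?_⟩, congrArg Subtype.val hnc.symm⟩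
    exact mem_centralizer_singleton_iff.2 (congrArg Subtype.val (mem_centralizer_singleton_iff.1 hc))
  have hVX : ∀ u ∈ zpowers S3 ⊔ zpowers V3, u * X3 * u⁻¹ ∈ zpowers X3 := by
    intro u hu
    exact hconj (zpowers X3) (hmapz _ _ _ (by rw [eSX]; exact mem_zpowers _))
      (hmapz _ _ _ (by rw [inv_VX]; exact inv_mem (mem_zpowers _))) u hu X3 (mem_zpowers _)
  have hVD : ∀ u ∈ zpowers S3 ⊔ zpowers V3, ∀ d ∈ D9, u * d * u⁻¹ ∈ D9 :=
    hconj D9 (hmaps _ _ (by rw [eSY]; exact mem_sup_left (mem_zpowers _))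
      (by rw [eSX]; exact mem_sup_right (mem_zpowers _)))
      (hmaps _ _ (by rw [inv_VY]; exact inv_mem (mem_sup_left (mem_zpowers _)))
        (by rw [inv_VX]; exact inv_mem (mem_sup_right (mem_zpowers _))))
  obtain ⟨S, hS⟩ := KleinSylow.exists_sylow_of_core (p := 3) (by norm_num) (x := X3) index_X3
    (MM ⊓ centralizer ({S3} : Set G)) D9 inf_le_left hNZ (le_inf D9_le' D9_le) isPGroup_D9
    (relIndex_D9 (le_inf D9_le' D9_le) inf_le_right) (zpowers S3 ⊔ zpowers V3) hV hVX hVD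
  exact ⟨S, hS (mem_sup_left (mem_zpowers _)), hS (mem_sup_right (mem_zpowers _))⟩

/-! ### 3-elements commuting with involutions -/

/-- a subgroup of exponent `p` and index prime to `p` -/
theorem exp_of_index {p : ℕ} [Fact p.Prime] {H : Type*} [Group H] [Finite H] (D : Subgroup H) (hD : ¬ p ∣ D.index)
    (he : ∀ d ∈ D, d ^ p = 1) {x : H} (hx : H749.PEl p x) : x ^ p = 1 := by
  obtain ⟨g, hg⟩ := H749.exists_conj_mem D hD hx
  have h1 := he _ hg
  rw [conj_pow] at h1
  exact conj_eq_one_iff.1 h1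

theorem exp_of_comm {p : ℕ} [Fact p.Prime] {H : Type*} [Group H] [Finite H] {u t : H} (D : Subgroup H)
    (hle : D ≤ centralizer ({u} : Set H)) (hD : ¬ p ∣ D.relIndex (centralizer ({u} : Set H)))
    (he : ∀ d ∈ D, d ^ p = 1) (hc : IsConj t u) {x : H} (hx : H749.PEl p x) (hxt : x * t = t * x) : x ^ p = 1 := by
  obtain ⟨g, rfl⟩ := isConj_iff.1 hc
  have h1 : g * x * g⁻¹ ∈ centralizer ({g * t * g⁻¹} : Set H) := by
    rw [mem_centralizer_singleton_iff]
    calc g * x * g⁻¹ * (g * t * g⁻¹) = g * (x * t) * g⁻¹ := by group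
      _ = g * (t * x) * g⁻¹ := by rw [hxt]
      _ = _ := by group
  have h2 := exp_of_index (D.subgroupOf (centralizer ({g * t * g⁻¹} : Set H))) hD (fun d hd =>
    Subtype.ext (he _ hd)) (x := ⟨g * x * g⁻¹, h1⟩)
      (H749.PEl.of_map (f := (centralizer ({g * t * g⁻¹} : Set H)).subtype) (Subgroup.subtype_injective _)
        (hx.conj g))
  have h3 : (g * x * g⁻¹) ^ p = 1 := congrArg Subtype.val h2
  rw [conj_pow] at h3
  exact conj_eq_one_iff.1 h3

theorem exp_three {y t : G} (hy : H749.PEl 3 y) (ht : orderOf t = 2) (h : y * t = t * y) : y ^ 3 = 1 := by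
  have : Fact (Nat.Prime 3) := ⟨by norm_num⟩
  rcases inv_class ht with h1 | h1
  · have hle : nine.range.map Φ ≤ centralizer ({tt} : Set G) := by
      rintro _ ⟨p, hp, rfl⟩
      exact mem_centralizer_singleton_iff.2 (comm_of_nine hp)
    refine exp_of_comm (p := 3) (nine.range.map Φ) hle ?_ ?_ (h1.trans isConj_tt.symm) hy h
    · change ¬ 3 ∣ N9.index
      rintro ⟨i, hi⟩
      have h2 := N9.card_mul_index
      rw [card_N9, card_cent_tt, hi] at h2
      omega
    · rintro _ ⟨p, hp, rfl⟩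
      obtain ⟨i, hi, j, hj, hpij⟩ := mem_nine hp
      have h3 : ∀ i < 3, ∀ j < 3, (ca ^ i * cb ^ j) ^ 3 = 1 := by decide +kernel
      rw [← map_pow, ← map_one Φ]
      refine congrArg Φ (Subtype.ext ?_)
      change (p : Equiv.Perm (Fin 12)) ^ 3 = 1
      rw [hpij]
      exact h3 i hi j hj
  · exact exp_of_comm (p := 3) D9 D9_le (relIndex_D9 D9_le le_rfl) (fun d hd => exp_D9 hd)
      (h1.trans (isConj_W0_of_tr order_S3 tr_s3).symm) hy h

theorem order_of_comm {y t : G} (hy : H749.PEl 3 y) (ht : orderOf t = 2) (h : y * t = t * y) (hy1 : y ≠ 1) :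
    orderOf y = 3 := by
  have : Fact (Nat.Prime 3) := ⟨by norm_num⟩
  exact orderOf_eq_prime (exp_three hy ht h) hy1

/-- **3-elements commuting with an involution are conjugate to `X1` or `X3`** -/
theorem conj_of_comm {y t : G} (hy : H749.PEl 3 y) (ht : orderOf t = 2) (h : y * t = t * y) (hy1 : y ≠ 1) :
    ∃ c : G, c * y * c⁻¹ = X1 ∨ c * y * c⁻¹ = X3 := by
  have h3 := order_of_comm hy ht h hy1
  obtain ⟨s, hs, hc⟩ := exists_two h3 ht h
  rcases T1_or_T2 h3 hs hc with h4 | h4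
  · obtain ⟨c, hc, -⟩ := h4.conj h3 order_X3 t1_x3
    exact ⟨c, Or.inr hc⟩
  · obtain ⟨c, hc, -⟩ := h4.conj h3 order_X1 t2_x1
    exact ⟨c, Or.inl hc⟩

/-- **`FullP 3 HN`** -/
theorem fullP_HN : H749.FullP 3 G := by
  have : Fact (Nat.Prime 3) := ⟨by norm_num⟩
  rintro P hP ⟨x, hx, hx1, hPx⟩ y hy
  obtain ⟨S, hS, hV⟩ := exists_sylow
  have hs2 : S3 * S3 = 1 := by rw [← pow_two, ← order_S3, pow_orderOf_eq_one]
  have hv2 : V3 * V3 = 1 := by rw [← pow_two, ← order_V3, pow_orderOf_eq_one]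
  have hsv2 : orderOf (S3 * V3) = 2 := by
    have h1 : S3 * V3 = Φ (⟨s3, s3_mem⟩ * ⟨v3, v3_mem⟩) := by rw [map_mul]; rfl
    rw [h1]
    exact orderOf_two (mul_mem s3_mem v3_mem) (by decide +kernel) (by decide +kernel)
  have hord : ∀ t : G, (t = S3 ∨ t = V3 ∨ t = S3 * V3) → orderOf t = 2 := by
    rintro t (rfl | rfl | rfl)
    · exact order_S3
    · exact order_V3
    · exact hsv2
  obtain ⟨t, ht, z, hz, hz1, hzt, hPz⟩ := H792.SpTool.exists_of_klein (by norm_num) hP S hs2 hv2 comm_SV hS hV hx hx1 hPx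
  -- the class in `A12`
  have hA : H749.FullP 3 A12 := by
    refine H792.SpTool.fullP_of_full (H794.full_alt (by norm_num) ⟨12, by norm_num, ⟨MulEquiv.refl _⟩⟩)
  have hPP := hP.comap Φ
  have e1 : H749.PEl 3 (⟨x1, x1_mem⟩ : A12) := H749.PEl.of_map Φ_inj (pow_three_of_order order_X1)
  have e3 : H749.PEl 3 (⟨x3, x3_mem⟩ : A12) := H749.PEl.of_map Φ_inj (pow_three_of_order order_X3)
  have hall : ∀ a : A12, H749.PEl 3 a → P (Φ a) := by
    obtain ⟨c, hc⟩ := conj_of_comm (H749.PEl.of_isPGroup S.2 hz) (hord t ht) hzt hz1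
    rcases hc with hc | hc
    · refine hA _ hPP ⟨⟨x1, x1_mem⟩, e1, ?_, ?_⟩
      · intro h
        have := congrArg Subtype.val h
        exact absurd this (by decide +kernel)
      · change P X1
        rw [← hc]
        exact hP.conj c hPz
    · refine hA _ hPP ⟨⟨x3, x3_mem⟩, e3, ?_, ?_⟩
      · intro h
        have := congrArg Subtype.val h
        exact absurd this (by decide +kernel)
      · change P X3
        rw [← hc]
        exact hP.conj c hPz
  have hall' : ∀ t : G, orderOf t = 2 → ∀ z : G, H749.PEl 3 z → z * t = t * z → P z := by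
    intro t ht z hz hzt
    by_cases hz1 : z = 1
    · rw [hz1]; exact hP.one
    obtain ⟨c, hc⟩ := conj_of_comm hz ht hzt hz1
    rcases hc with hc | hc
    · refine hP.of_conj (g := c) ?_
      rw [hc]
      exact hall _ e1
    · refine hP.of_conj (g := c) ?_
      rw [hc]
      exact hall _ e3
  refine H792.SpTool.all_of_sylow hP S (fun y hy => ?_) hy
  exact H792.SpTool.all_of_klein (by norm_num) hP S.2 hs2 hv2 comm_SV (fun x hx => (mem_normalizer_iff.1 hS x).1 hx)
    (fun x hx => (mem_normalizer_iff.1 hV x).1 hx)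
    (fun t ht x hx hxt => hall' t (hord t ht) x (H749.PEl.of_isPGroup S.2 hx) hxt) hy

/-- **`FullP 3 HN`**, abstract form -/
theorem fullP_hn_three {G : Type*} [Group G] [Finite G] (h : Cfsg.Spor.IsoHN G) : H749.FullP 3 G := by
  obtain ⟨e⟩ := h
  exact fullP_HN.of_mulEquiv e.symm

end Cfsg.Agent.H569.HNThree

private theorem dce_bb5629f6aa62 : _root_.True := by
  try have : _root_.True := by simp only [_root_.Cfsg.Agent.H569.HNThree.K12.eq_1]
  try have : _root_.True := by simp only [_root_.Cfsg.Agent.H569.HNThree.D9.eq_1]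
  try have : _root_.True := by simp only [_root_.Cfsg.Agent.H569.HNThree.YA.eq_1]
  try have : _root_.True := by simp only [_root_.Cfsg.Agent.CpAutHN.Pairs.X3.eq_1]
  exact _root_.True.intro
end

-- part: H478/HN3D
section
set_option linter.all false
open scoped Cfsg.Agent.FastGrp

-- part: H478/HN3A
section
/-!
# Radical elements of order three of HN, I: elements commuting with an involution (helper478, for S3854)
-/

set_option autoImplicit false

namespace Cfsg.Agent.H478.HNThree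

open Subgroup Cfsg
open Cfsg.Agent Cfsg.Agent.H459.Rad Cfsg.Agent.H839.Rad Cfsg.Agent.SignalizersComponents.ComponentExists
open Cfsg.Agent.HN.XWords (W0 W0_sq)
open Cfsg.Agent.KFacts.HN (PP mem_PP ρ φA φB W0_ne A5 comm_AB φB_inj φA_inj φ2_inj ρ_surj card_PP Lq LL mem_LL index_LL
  card_ker)
open Cfsg.Agent.CpAutHN.LqFacts
open Cfsg.Agent.CpAutHN.PPFacts
open Cfsg.Agent.CpAutHN.Alt
open Cfsg.Agent.CpAutHN.Tr
open Cfsg.Agent.CpAutHN.Pairs
open Cfsg.Agent.H569.HNThree (card_G finite_G)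
open Equiv.Perm (mem_alternatingGroup)

attribute [local instance] Cfsg.Agent.H569.HNThree.finite_G

theorem simple_A5 : IsSimpleGroup A5 := alternatingGroup.isSimpleGroup (by simp)

theorem center_A5 : center A5 = ⊥ := alternatingGroup.center_eq_bot (by simp)

theorem not_solvable_A5 : ¬ Group.IsSolvable A5 := by
  intro h
  have := simple_A5
  have h3 := IsSimpleGroup.comm_iff_isSolvable.2 h
  have : (⊤ : Subgroup A5) ≤ center _ := fun x _ => mem_center_iff.2 fun y => h3 y x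
  rw [center_A5, le_bot_iff] at this
  exact absurd this top_ne_bot

instance finite_Lq : Finite Lq := Finite.of_surjective _ ρ_surj

theorem of_comap {f : A5 →* Lq} (hf : Function.Injective f) {b : A5} (hb : f b ∈ solvableRadical Lq) : b = 1 := by
  have := simple_A5
  have hn : ((solvableRadical Lq).comap f).Normal := (rad_normal Lq).comap f
  have hm : b ∈ (solvableRadical Lq).comap f := hb
  rcases hn.eq_bot_or_eq_top with h | h
  · rw [h, mem_bot] at hm
    exact hm
  · exfalso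
    apply not_solvable_A5
    have hs := rad_solvable Lq
    refine Group.isSolvable_of_isSolvable_injective (f := f.codRestrict (solvableRadical Lq) fun a => ?_) ?_
    · have h1 : a ∈ (solvableRadical Lq).comap f := by rw [h]; exact mem_top _
      exact h1
    · intro a c hac
      exact hf (congrArg Subtype.val hac)

theorem rad_inf_LL {z : Lq} (hz : z ∈ solvableRadical Lq) (hL : z ∈ LL) : z = 1 := by
  have hn := rad_normal Lq
  obtain ⟨a, b, rfl⟩ := mem_LL.1 hL
  have ha : a = 1 := by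
    have h1 : ∀ y : A5, y * a * y⁻¹ * a⁻¹ = 1 := by
      intro y
      apply of_comap φA_inj
      have h2 := mul_mem (hn.conj_mem _ hz (φA y)) (inv_mem hz)
      have h3 := conj_AB y 1 a b
      rw [map_one φB, mul_one] at h3
      rw [h3, mul_inv_rev, mul_assoc (φA (y * a * y⁻¹))] at h2
      have h4 : φB (1 * b * 1⁻¹) * ((φB b)⁻¹ * (φA a)⁻¹) = (φA a)⁻¹ := by
        rw [one_mul, inv_one, mul_one, mul_inv_cancel_left]
      rw [h4, ← map_inv, ← map_mul] at h2
      exact h2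
    have h2 : a ∈ center A5 := mem_center_iff.2 fun y => by
      have h3 := h1 y
      rw [mul_inv_eq_one, mul_inv_eq_iff_eq_mul] at h3
      exact h3
    rw [center_A5, mem_bot] at h2
    exact h2
  rw [ha, map_one, one_mul] at hz ⊢
  rw [of_comap φB_inj hz, map_one]

theorem mem_LL_of_three {z : Lq} (h3 : z ^ 3 = 1) : z ∈ LL := by
  have h2 : (z ^ 2) ^ 2 = z := by
    rw [← pow_mul, show 2 * 2 = 3 + 1 from rfl, pow_add, h3, one_mul, pow_one]
  rw [← h2]
  exact LL.pow_mem (Subgroup.sq_mem_of_index_two index_LL z) 2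

theorem radFree_Lq : RadFree 3 Lq := by
  intro z hz hr
  have h3 : z ^ 3 = 1 := by rw [← hz, pow_orderOf_eq_one]
  have h1 := rad_inf_LL hr (mem_LL_of_three h3)
  rw [h1, orderOf_one] at hz
  exact absurd hz (by norm_num)

theorem radFree_PP : RadFree 3 ↥PP := by
  refine RadFree.of_surj Nat.prime_three ρ ρ_surj ?_ radFree_Lq
  intro x hx h3
  exact ρ_order h3 hx

theorem PP_ne_top : PP ≠ ⊤ := by
  intro h
  have h1 := card_PP
  rw [h, card_top] at h1
  change Nat.card G = _ at h1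
  rw [card_G] at h1
  exact absurd h1 (by norm_num)

/-- **a radical element of order three commutes with no involution** -/
theorem false_of_inv {x t : G} (hx : orderOf x = 3) (hR : RC (MulAut.conj x)) (ht : orderOf t = 2)
    (hc : x * t = t * x) : False := by
  obtain ⟨s, hs, hxs⟩ := exists_two hx ht hc
  obtain ⟨g, hg⟩ := isConj_iff.1 hs
  refine false_of_conj_mem hx hR PP_ne_top (g := g) ?_ radFree_PP
  rw [mem_PP, ← hg]
  calc g * x * g⁻¹ * (g * s * g⁻¹) = g * (x * s) * g⁻¹ := by group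
    _ = g * (s * x) * g⁻¹ := by rw [hxs]
    _ = _ := by group

end Cfsg.Agent.H478.HNThree
end

-- part: H478/HN3B
section
/-!
# Radical elements of order three of HN, II: the centralizer of the 3-central element `X3` (helper478, for S3854)
-/

set_option autoImplicit false

namespace Cfsg.Agent.H478.HNThree

open Subgroup Cfsg
open Cfsg.Agent Cfsg.Agent.H459.Rad Cfsg.Agent.H839.Rad Cfsg.Agent.SignalizersComponents.ComponentExists
open Cfsg.Agent.HN.XWords (W0 W0_sq)
open Cfsg.Agent.KFacts.HN (PP mem_PP ρ φA φB W0_ne A5 comm_AB φB_inj φA_inj φ2_inj ρ_surj card_PP Lq LL mem_LL index_LL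
  card_ker φ2)
open Cfsg.Agent.CpAutHN.LqFacts
open Cfsg.Agent.CpAutHN.PPFacts
open Cfsg.Agent.CpAutHN.Alt
open Cfsg.Agent.CpAutHN.Tr
open Cfsg.Agent.CpAutHN.Pairs
open Cfsg.Agent.H569.HNThree (card_G finite_G MM ss order_ss S3X3 comm_core index_X3 mk mk_core)
open Equiv.Perm (mem_alternatingGroup)

attribute [local instance] Cfsg.Agent.H569.HNThree.finite_G

section
open Cfsg.Agent.HN Cfsg.Agent.HN.Pres Cfsg.Agent.HN.P1408 Cfsg.Agent.HN.H0Basic Cfsg.Agent.HN.XMat
open Cfsg.Agent.HN.XStruct Cfsg.Agent.HN.XWords Cfsg.Agent.HN.XQuot Cfsg.Agent.HN.XInst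

/-- the elements of the kernel of `ρ` commuting with an element of the first type -/
theorem ker_comm {x v : PP} (hx : ρ x = φA c0) (hv : ρ v = 1) (h : v * x = x * v) :
    (v : Cfsg.Spor.HN) = 1 ∨ (v : Cfsg.Spor.HN) = W0 := by
  obtain ⟨m, hm, c, hvm⟩ := mem_ker_iff.1 (MonoidHom.mem_ker.2 hv)
  have h1 := fix_A hm (app_eq_of_comm (hx.trans φA_c0) hm hvm h)
  rw [h1, show r Q 0 = 1 from Bas.r_zero, one_mul] at hvm
  rw [hvm]
  exact sgn0_cases c

end

/-- the conjugating element -/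
noncomputable def cc : G := t1_x3.choose
theorem cc_mem : cc * X3 * cc⁻¹ ∈ PP := t1_x3.choose_spec.choose
theorem cc_S3 : cc * S3 * cc⁻¹ = W0 := t1_x3.choose_spec.choose_spec.1
/-- the image of `X3` -/
noncomputable def X0 : PP := ⟨cc * X3 * cc⁻¹, cc_mem⟩
theorem ρ_X0 : ρ X0 = φA c0 := t1_x3.choose_spec.choose_spec.2

/-- the centralizer of `S3` in `C(X3)` -/
noncomputable abbrev KK : Subgroup MM := centralizer ({ss} : Set MM)

theorem conj_mem_PP {y : G} (h : y * S3 = S3 * y) : cc * y * cc⁻¹ ∈ PP := by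
  rw [mem_PP, ← cc_S3]
  calc cc * y * cc⁻¹ * (cc * S3 * cc⁻¹) = cc * (y * S3) * cc⁻¹ := by group
    _ = cc * (S3 * y) * cc⁻¹ := by rw [h]
    _ = _ := by group

theorem KK_comm (k : KK) : ((k : MM) : G) * S3 = S3 * ((k : MM) : G) :=
  congrArg Subtype.val (mem_centralizer_singleton_iff.1 k.2)

/-- conjugation by `cc` -/
noncomputable def f0 : KK →* PP :=
  ((MulAut.conj cc).toMonoidHom.comp (MM.subtype.comp KK.subtype)).codRestrict PP fun k => conj_mem_PP (KK_comm k)

theorem f0_coe (k : KK) : (f0 k : G) = cc * ((k : MM) : G) * cc⁻¹ := rfl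

theorem f0_comm (k : KK) : f0 k * X0 = X0 * f0 k := by
  apply Subtype.ext
  have h : ((k : MM) : G) * X3 = X3 * ((k : MM) : G) := mem_centralizer_singleton_iff.1 (k : MM).2
  change cc * ((k : MM) : G) * cc⁻¹ * (cc * X3 * cc⁻¹) = cc * X3 * cc⁻¹ * (cc * ((k : MM) : G) * cc⁻¹)
  calc cc * ((k : MM) : G) * cc⁻¹ * (cc * X3 * cc⁻¹) = cc * (((k : MM) : G) * X3) * cc⁻¹ := by group
    _ = cc * (X3 * ((k : MM) : G)) * cc⁻¹ := by rw [h]
    _ = _ := by group

theorem ρ_f0_comm (k : KK) : ρ (f0 k) * φA c0 = φA c0 * ρ (f0 k) := by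
  rw [← ρ_X0, ← map_mul, f0_comm, map_mul]

theorem ρ_f0_mem (k : KK) : ρ (f0 k) ∈ φ2.range := mem_LL_of_comm c0_ne (ρ_f0_comm k)

theorem φ2_inj' : Function.Injective φ2 := by
  rintro ⟨a, b⟩ ⟨a', b'⟩ h
  obtain ⟨h1, h2⟩ := φ2_inj h
  exact Prod.ext h1 h2

/-- the homomorphism to `A5` -/
noncomputable def κ : KK →* A5 :=
  (MonoidHom.snd A5 A5).comp ((MonoidHom.ofInjective φ2_inj').symm.toMonoidHom.comp
    ((ρ.comp f0).codRestrict φ2.range ρ_f0_mem))

theorem κ_spec (k : KK) : ∃ a : A5, (a = 1 ∨ a = c0 ∨ a = c0 * c0) ∧ ρ (f0 k) = φA a * φB (κ k) := by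
  have h1 : φ2 ((MonoidHom.ofInjective φ2_inj').symm ⟨ρ (f0 k), ρ_f0_mem k⟩) = ρ (f0 k) := by
    have h2 := (MonoidHom.ofInjective φ2_inj').apply_symm_apply ⟨ρ (f0 k), ρ_f0_mem k⟩
    exact congrArg Subtype.val h2
  generalize hp : (MonoidHom.ofInjective φ2_inj').symm ⟨ρ (f0 k), ρ_f0_mem k⟩ = p at h1
  have h3 : κ k = p.2 := by rw [← hp]; rfl
  refine ⟨p.1, ?_, ?_⟩
  · have h4 := ρ_f0_comm k
    rw [← h1, Cfsg.Agent.KFacts.HN.φ2_apply] at h4
    have h5 : p.1 * c0 = c0 * p.1 := by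
      apply φA_inj
      rw [map_mul, map_mul]
      have h := comm_AB c0 p.2
      apply mul_right_cancel (b := φB p.2)
      calc φA p.1 * φA c0 * φB p.2 = φA p.1 * (φA c0 * φB p.2) := by group
        _ = φA p.1 * φB p.2 * φA c0 := by rw [h]; group
        _ = φA c0 * (φA p.1 * φB p.2) := h4
        _ = φA c0 * φA p.1 * φB p.2 := by group
    exact cent_c0 h5
  · rw [h3, ← h1]
    rfl

theorem order_X0 : orderOf X0 = 3 := order_sub cc_mem (order_conj order_X3 cc)

theorem κ_of {k : KK} {b : A5} (h : ρ (f0 k) = φB b) : κ k = b := by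
  obtain ⟨a, -, h1⟩ := κ_spec k
  rw [h, ← one_mul (φB b), ← map_one φA] at h1
  exact ((φ2_inj h1).2).symm

theorem κ_surj : Function.Surjective κ := by
  intro b
  obtain ⟨w, hw⟩ := ρ_surj (φB b)
  obtain ⟨q, hq, hqw⟩ := CpAutTh.RankOne.exists_comm Nat.prime_two Nat.prime_three (by norm_num) ρ isPGroup_ker
    (g := w) order_X0 (by rw [hw, ρ_X0, comm_AB])
  have hρq : ρ (q * w) = φB b := by rw [map_mul, (MonoidHom.mem_ker).1 hq, one_mul, hw]
  generalize hv : q * w = v at hqw hρq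
  have hv1 : (v : G) * (cc * X3 * cc⁻¹) = cc * X3 * cc⁻¹ * v := congrArg Subtype.val hqw
  have hv2 : (v : G) * W0 = W0 * v := mem_PP.1 v.2
  have h1 : cc⁻¹ * v * cc * X3 = X3 * (cc⁻¹ * v * cc) := by
    calc cc⁻¹ * v * cc * X3 = cc⁻¹ * (v * (cc * X3 * cc⁻¹)) * cc := by group
      _ = cc⁻¹ * (cc * X3 * cc⁻¹ * v) * cc := by rw [hv1]
      _ = _ := by group
  have h2 : cc⁻¹ * v * cc * S3 = S3 * (cc⁻¹ * v * cc) := by
    calc cc⁻¹ * v * cc * S3 = cc⁻¹ * (v * (cc * S3 * cc⁻¹)) * cc := by group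
      _ = cc⁻¹ * (cc * S3 * cc⁻¹ * v) * cc := by rw [cc_S3, hv2]
      _ = _ := by group
  refine ⟨⟨⟨cc⁻¹ * v * cc, mem_centralizer_singleton_iff.2 h1⟩,
    mem_centralizer_singleton_iff.2 (Subtype.ext h2)⟩, κ_of ?_⟩
  rw [← hρq]
  congr 1
  apply Subtype.ext
  rw [f0_coe]
  change cc * (cc⁻¹ * v * cc) * cc⁻¹ = v
  group

/-- the kernel of `κ` -/
theorem ker_κ {k : KK} (hk : κ k = 1) : ∃ i : ℕ, ((k : MM) : G) = X3 ^ i ∨ ((k : MM) : G) = S3 * X3 ^ i := by
  obtain ⟨a, ha, h1⟩ := κ_spec k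
  rw [hk, map_one, mul_one] at h1
  obtain ⟨i, hi⟩ : ∃ i : ℕ, a = c0 ^ i := by
    rcases ha with h | h | h
    · exact ⟨0, by rw [h, pow_zero]⟩
    · exact ⟨1, by rw [h, pow_one]⟩
    · exact ⟨2, by rw [h, pow_two]⟩
  have h2 : ρ (f0 k * (X0 ^ i)⁻¹) = 1 := by
    rw [map_mul, map_inv, map_pow, ρ_X0, h1, hi, map_pow, mul_inv_cancel]
  have h3 : f0 k * (X0 ^ i)⁻¹ * X0 = X0 * (f0 k * (X0 ^ i)⁻¹) := by
    have c1 : Commute (f0 k) X0 := f0_comm k
    exact (c1.mul_left ((Commute.refl X0).pow_left i).inv_left).eq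
  have h4 := ker_comm ρ_X0 h2 h3
  have h5 : ((f0 k * (X0 ^ i)⁻¹ : PP) : G) = cc * (((k : MM) : G) * (X3 ^ i)⁻¹) * cc⁻¹ := by
    have h6 : ((X0 ^ i : PP) : G) = cc * X3 ^ i * cc⁻¹ := by
      rw [Subgroup.coe_pow]
      change (cc * X3 * cc⁻¹) ^ i = _
      rw [conj_pow]
    rw [Subgroup.coe_mul, Subgroup.coe_inv, h6, f0_coe]
    group
  rw [h5] at h4
  refine ⟨i, ?_⟩
  rcases h4 with h4 | h4
  · left
    have h6 : ((k : MM) : G) * (X3 ^ i)⁻¹ = 1 := conj_eq_one_iff.1 h4
    exact mul_inv_eq_one.1 h6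
  · right
    rw [← cc_S3] at h4
    have h6 : ((k : MM) : G) * (X3 ^ i)⁻¹ = S3 := mul_left_cancel (mul_right_cancel h4)
    exact mul_inv_eq_iff_eq_mul.1 h6

end Cfsg.Agent.H478.HNThree
end

-- part: H478/HN3C
section
/-!
# Radical elements of order three of HN, III: the odd core of `C(X3)` (helper478, for S3854)
-/

set_option autoImplicit false

namespace Cfsg.Agent.H478.HNThree

open Subgroup Cfsg
open Cfsg.Agent Cfsg.Agent.H459.Rad Cfsg.Agent.H839.Rad Cfsg.Agent.SignalizersComponents.ComponentExists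
open Cfsg.Agent.KFacts.HN (A5)
open Cfsg.Agent.CpAutHN.Alt
open Cfsg.Agent.CpAutHN.Tr
open Cfsg.Agent.CpAutHN.Pairs
open Cfsg.Agent.H569.HNThree (card_G finite_G MM ss order_ss S3X3 comm_core index_X3 mk mk_core)
open Equiv.Perm (mem_alternatingGroup)

attribute [local instance] Cfsg.Agent.H569.HNThree.finite_G

/-- the odd core of `C(X3)` -/
noncomputable abbrev OO : Subgroup MM := pPrimeCore 2 MM

instance OO_normal : OO.Normal := Lib.Cores.pPrimeCore_normal 2

theorem odd_OO : Odd (Nat.card OO) := H569.KleinIso.odd_core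

/-- `X3` in its centralizer -/
noncomputable def xx : MM := ⟨X3, mem_centralizer_singleton_iff.2 rfl⟩

theorem order_xx : orderOf xx = 3 := by rw [← Subgroup.orderOf_coe]; exact order_X3

theorem xx_comm (m : MM) : m * xx = xx * m := Subtype.ext (mem_centralizer_singleton_iff.1 m.2)

instance Z_normal : (zpowers xx).Normal := by
  refine ⟨fun z hz m => ?_⟩
  obtain ⟨k, rfl⟩ := mem_zpowers_iff.1 hz
  have h : Commute m xx := xx_comm m
  rw [(h.zpow_right k).eq, mul_inv_cancel_right]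
  exact zpow_mem (mem_zpowers xx) k

theorem Z_le : zpowers xx ≤ OO := by
  refine Lib.Cores.le_pPrimeCore Z_normal ?_
  rw [Nat.card_zpowers, order_xx]
  decide

theorem ss_not_mem : ss ∉ OO := by
  intro h
  have h1 : orderOf (⟨ss, h⟩ : OO) ∣ Nat.card OO := _root_.orderOf_dvd_natCard _
  rw [Subgroup.orderOf_mk, order_ss] at h1
  exact (Nat.not_even_iff_odd.2 odd_OO) (even_iff_two_dvd.2 h1)

/-- the elements of the odd core commuting with `S3` -/
theorem inf_OO {o : MM} (ho : o ∈ OO) (hc : o * ss = ss * o) : o ∈ zpowers xx := by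
  have hs := simple_A5
  let N : Subgroup KK := OO.subgroupOf KK
  have hN : N.Normal := inferInstance
  have hM : (N.map κ).Normal := hN.map κ κ_surj
  have hk : (⟨o, mem_centralizer_singleton_iff.2 hc⟩ : KK) ∈ N := mem_subgroupOf.2 ho
  have hodd : Odd (Nat.card N) := by
    refine odd_OO.of_dvd_nat ?_
    have h1 : Nat.card N = Nat.card ↥(N.map KK.subtype) :=
      (Nat.card_congr (N.equivMapOfInjective _ KK.subtype_injective).toEquiv)
    rw [h1, subgroupOf_map_subtype]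
    exact card_dvd_of_le inf_le_left
  rcases hM.eq_bot_or_eq_top with h | h
  · have h1 : κ ⟨o, mem_centralizer_singleton_iff.2 hc⟩ = 1 := by
      have h2 := mem_map_of_mem κ hk
      rw [h, mem_bot] at h2
      exact h2
    obtain ⟨i, h2 | h2⟩ := ker_κ h1
    · rw [mem_zpowers_iff]
      exact ⟨i, Subtype.ext (by rw [zpow_natCast, Subgroup.coe_pow]; exact h2.symm)⟩
    · exfalso
      have h3 : o = ss * xx ^ i := Subtype.ext h2
      apply ss_not_mem
      have h4 : ss = o * (xx ^ i)⁻¹ := by rw [h3, mul_inv_cancel_right]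
      rw [h4]
      exact mul_mem ho (inv_mem (pow_mem (Z_le (mem_zpowers xx)) i))
  · exfalso
    have h1 : Nat.card ↥(N.map κ) ∣ Nat.card N := N.card_map_dvd κ
    rw [h, card_top] at h1
    have h2 : Nat.card A5 = 60 := by
      rw [Nat.card_eq_fintype_card]
      decide +kernel
    rw [h2] at h1
    exact (Nat.not_even_iff_odd.2 hodd) (even_iff_two_dvd.2 (dvd_trans (by norm_num) h1))

/-- the quotient by `⟨X3⟩` -/
noncomputable abbrev q : MM →* MM ⧸ zpowers xx := QuotientGroup.mk' (zpowers xx)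

/-- conjugation by `S3` on the quotient of the odd core -/
noncomputable abbrev Ob : Subgroup (MM ⧸ zpowers xx) := OO.map q

instance Ob_normal : Ob.Normal := OO_normal.map q (QuotientGroup.mk'_surjective _)

noncomputable def φs : Ob →* Ob := (MulAut.conjNormal (q ss)).toMonoidHom

theorem φs_coe (g : Ob) : (φs g : MM ⧸ zpowers xx) = q ss * g * (q ss)⁻¹ := MulAut.conjNormal_apply _ _

theorem ss_mul : ss * ss = 1 := by rw [← pow_two, ← order_ss, pow_orderOf_eq_one]

theorem φs_inv : Function.Involutive φs := by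
  intro g
  apply Subtype.ext
  rw [φs_coe, φs_coe]
  have h1 : q ss * q ss = 1 := by rw [← map_mul, ss_mul, map_one]
  have h2 : (q ss)⁻¹ = q ss := (inv_eq_of_mul_eq_one_left h1 :)
  rw [h2]
  calc q ss * (q ss * g * q ss) * q ss = (q ss * q ss) * g * (q ss * q ss) := by group
    _ = g := by rw [h1, one_mul, mul_one]

theorem φs_fpf : MonoidHom.FixedPointFree φs := by
  rintro ⟨g, hg⟩ h
  obtain ⟨o, ho, rfl⟩ := hg
  have h1 : q ss * q o * (q ss)⁻¹ = q o := by
    rw [← φs_coe ⟨q o, ⟨o, ho, rfl⟩⟩, h]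
  rw [← map_inv, ← map_mul, ← map_mul] at h1
  have h2 : o⁻¹ * (ss * o * ss⁻¹) ∈ zpowers xx := QuotientGroup.eq.1 h1.symm
  generalize hz : o⁻¹ * (ss * o * ss⁻¹) = z at h2
  have h3 : ss * o * ss⁻¹ = o * z := by rw [← hz]; group
  have hsz : ss * z = z * ss := by
    obtain ⟨k, rfl⟩ := mem_zpowers_iff.1 h2
    exact ((show Commute ss xx from xx_comm ss).zpow_right k).eq
  have hs : ss⁻¹ = ss := (inv_eq_of_mul_eq_one_left ss_mul :)
  have h4 : o = o * (z * z) := by
    calc o = ss * (ss * o * ss⁻¹) * ss⁻¹ := by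
          rw [hs]
          calc o = (ss * ss) * o * (ss * ss) := by rw [ss_mul, one_mul, mul_one]
            _ = _ := by group
      _ = ss * o * (z * ss⁻¹) := by rw [h3]; group
      _ = ss * o * ss⁻¹ * z := by
          have : z * ss⁻¹ = ss⁻¹ * z := by rw [hs, hsz]
          rw [this]; group
      _ = o * (z * z) := by rw [h3]; group
  have h5 : z * z = 1 := (mul_eq_left.1 h4.symm)
  have h6 : z = 1 := by
    have h7 : orderOf z ∣ 3 := by
      rw [← order_xx]
      exact orderOf_dvd_of_mem_zpowers h2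
    have h8 : orderOf z ∣ 2 := orderOf_dvd_of_pow_eq_one (by rw [pow_two, h5])
    have h9 : orderOf z ∣ 1 := by
      have := Nat.dvd_gcd h7 h8
      exact this
    exact orderOf_eq_one_iff.1 (Nat.dvd_one.1 h9)
  rw [h6, mul_one, mul_inv_eq_iff_eq_mul] at h3
  apply Subtype.ext
  change q o = 1
  exact (QuotientGroup.eq_one_iff _).2 (inf_OO ho h3.symm)

/-- **the odd core of `C(X3)` is abelian modulo `⟨X3⟩`** -/
theorem comm_mod {a b : MM} (ha : a ∈ OO) (hb : b ∈ OO) : ∃ n : ℤ, a * b * a⁻¹ = xx ^ n * b := by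
  have h := φs_fpf.commute_all_of_involutive φs_inv ⟨q a, ⟨a, ha, rfl⟩⟩ ⟨q b, ⟨b, hb, rfl⟩⟩
  have h1 : q a * q b = q b * q a := congrArg Subtype.val h.eq
  rw [← map_mul, ← map_mul] at h1
  have h2 : (b * a)⁻¹ * (a * b) ∈ zpowers xx := QuotientGroup.eq.1 h1.symm
  obtain ⟨n, hn⟩ := mem_zpowers_iff.1 h2
  refine ⟨n, ?_⟩
  have h3 : a * b = b * a * xx ^ n := by rw [hn]; group
  have hc : Commute (b * a) (xx ^ n) := ((show Commute (b * a) xx from xx_comm _).zpow_right n)
  rw [h3, hc.eq]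
  group

theorem solvable_OO : Group.IsSolvable OO := by
  have h1 : Group.IsSolvable Ob :=
    Group.isSolvable_of_comm fun a b => (φs_fpf.commute_all_of_involutive φs_inv a b).eq
  let f : OO →* Ob := (q.comp OO.subtype).codRestrict Ob fun o => ⟨o, o.2, rfl⟩
  let g : ↥(zpowers xx) →* OO := Subgroup.inclusion Z_le
  have h2 : Group.IsSolvable ↥(zpowers xx) := inferInstance
  refine Group.isSolvable_of_ker_le_range g f ?_
  intro o ho
  have h3 : q o = 1 := congrArg Subtype.val (MonoidHom.mem_ker.1 ho)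
  exact ⟨⟨o, (QuotientGroup.eq_one_iff _).1 h3⟩, rfl⟩

theorem OO_le_rad : OO ≤ solvableRadical MM := le_rad OO_normal solvable_OO

/-- **the elements of order three of the radical of `C(X3)`** -/
theorem mem_OO {x : MM} (hx : orderOf x = 3) (hr : x ∈ solvableRadical MM) : x ∈ OO := by
  have hsup := H569.KleinIso.core_sup order_ss comm_core
  have h2 : x ∈ OO ⊔ KK := by rw [hsup]; exact mem_top _
  obtain ⟨o, ho, k, hk, hnk⟩ := mem_sup_of_normal_left.1 h2
  have hkr : k ∈ solvableRadical MM := by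
    have h3 : k = o⁻¹ * x := by rw [← hnk, inv_mul_cancel_left]
    rw [h3]
    exact mul_mem (inv_mem (OO_le_rad ho)) hr
  have hkK : (⟨k, hk⟩ : KK) ∈ solvableRadical KK := by
    have hn := rad_normal MM
    have h3 : (solvableRadical MM).subgroupOf KK ≤ solvableRadical KK := by
      refine le_rad inferInstance ?_
      have hs := rad_solvable MM
      refine Group.isSolvable_of_isSolvable_injective
        (f := (KK.subtype.comp ((solvableRadical MM).subgroupOf KK).subtype).codRestrict (solvableRadical MM)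
          fun t => t.2) ?_
      intro a b hab
      exact Subtype.ext (Subtype.ext (congrArg (fun t : ↥(solvableRadical MM) => (t : MM)) hab))
    exact h3 (mem_subgroupOf.2 hkr)
  have hκ : κ ⟨k, hk⟩ = 1 := by
    have hs := simple_A5
    have h3 := map_rad_le κ_surj hkK
    rw [rad_eq_bot_of_simple not_solvable_A5, mem_bot] at h3
    exact h3
  obtain ⟨i, h3 | h3⟩ := ker_κ hκ
  · have h4 : k = xx ^ i := Subtype.ext (by rw [Subgroup.coe_pow]; exact h3)
    rw [← hnk, h4]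
    exact mul_mem ho (pow_mem (Z_le (mem_zpowers xx)) i)
  · exfalso
    have h4 : k = ss * xx ^ i := Subtype.ext (by rw [Subgroup.coe_mul, Subgroup.coe_pow]; exact h3)
    apply ss_not_mem
    -- modulo the core
    let p : MM →* MM ⧸ OO := QuotientGroup.mk' OO
    have h5 : p x = p ss := by
      rw [← hnk, h4, map_mul, map_mul]
      have h6 : p o = 1 := (QuotientGroup.eq_one_iff _).2 ho
      have h7 : p (xx ^ i) = 1 := (QuotientGroup.eq_one_iff _).2 (pow_mem (Z_le (mem_zpowers xx)) i)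
      rw [h6, h7, one_mul, mul_one]
    have h6 : p ss ^ 3 = 1 := by rw [← h5, ← map_pow, ← hx, pow_orderOf_eq_one, map_one]
    have h7 : p ss ^ 2 = 1 := by rw [← map_pow, pow_two, ss_mul, map_one]
    have h8 : p ss = 1 := by
      calc p ss = p ss ^ 3 * (p ss ^ 2)⁻¹ := by group
        _ = 1 := by rw [h6, h7]; group
    exact (QuotientGroup.eq_one_iff _).1 h8

end Cfsg.Agent.H478.HNThree
end

-- part: H478/HN3D
section
/-!
# Radical elements of order three of HN, IV: elements of `A12 ≤ HN` conjugate to `X1` (helper478, for S3854)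
-/

set_option autoImplicit false

namespace Cfsg.Agent.H478.HNThree

open Subgroup Cfsg
open Cfsg.Agent Cfsg.Agent.H459.Rad Cfsg.Agent.H839.Rad Cfsg.Agent.SignalizersComponents.ComponentExists
open Cfsg.Agent.KFacts.HN (A5 PP mem_PP W0_ne)
open Cfsg.Agent.HN.XWords (W0 W0_sq)
open Cfsg.Agent.CpAutHN
open Cfsg.Agent.CpAutHN.Alt
open Cfsg.Agent.CpAutHN.Tr
open Cfsg.Agent.CpAutHN.Pairs
open Cfsg.Agent.H569.HNThree (card_G finite_G MM ss order_ss S3X3 comm_core index_X3 mk mk_core sg sg_mem)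
open Equiv.Perm (mem_alternatingGroup)

attribute [local instance] Cfsg.Agent.H569.HNThree.finite_G

/-- the centralizer of an element of the first type has 2-rank one -/
theorem one_of_T1 {x s : G} (h : T1 x s) : RankOne.One ↥(centralizer ({x} : Set G)) := by
  have hsx : x * s = s * x := by
    obtain ⟨g, hg, hs, -⟩ := h
    have h1 := mem_PP.1 hg
    rw [← hs] at h1
    calc x * s = g⁻¹ * (g * x * g⁻¹ * (g * s * g⁻¹)) * g := by group
      _ = g⁻¹ * (g * s * g⁻¹ * (g * x * g⁻¹)) * g := by rw [h1]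
      _ = _ := by group
  have hs2 : orderOf s = 2 := by
    obtain ⟨g, hg, hs, -⟩ := h
    have h1 : orderOf W0 = 2 := orderOf_eq_prime (by rw [pow_two]; exact W0_sq) W0_ne
    rw [← h1, ← hs]
    exact (MulEquiv.orderOf_eq (MulAut.conj g) s).symm
  let s' : ↥(centralizer ({x} : Set G)) := ⟨s, mem_centralizer_singleton_iff.2 hsx.symm⟩
  have hs' : orderOf s' = 2 := by rw [← Subgroup.orderOf_coe]; exact hs2
  refine (CpAutTh.RankOne.uInv_of_unique hs' ?_).1
  intro u hu hus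
  apply Subtype.ext
  exact h.unique (by rw [Subgroup.orderOf_coe]; exact hu) (mem_centralizer_singleton_iff.1 u.2)
    (congrArg Subtype.val hus)

/-- **an element of order three commuting with a four-group is conjugate to `X1`** -/
theorem conj_X1_of_klein {y v w : G} (hy : orderOf y = 3) (hv : orderOf v = 2) (hw : orderOf w = 2) (hne : v ≠ w)
    (hvw : v * w = w * v) (c1 : y * v = v * y) (c2 : y * w = w * y) : ∃ c : G, c * y * c⁻¹ = X1 := by
  obtain ⟨s, hs, hys⟩ := exists_two hy hv c1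
  rcases T1_or_T2 hy hs hys with h | h
  · exfalso
    have hone := one_of_T1 h
    apply hne
    have h1 := hone ⟨v, mem_centralizer_singleton_iff.2 c1.symm⟩ ⟨w, mem_centralizer_singleton_iff.2 c2.symm⟩
      (by rw [Subgroup.orderOf_mk, hv]) (by rw [Subgroup.orderOf_mk, hw]) (Subtype.ext hvw)
    exact congrArg Subtype.val h1
  · obtain ⟨c, hc, -⟩ := h.conj hy order_X1 t2_x1
    exact ⟨c, hc⟩

/-- the same for permutations -/
theorem conj_X1_of_perm {y v w : Equiv.Perm (Fin 12)} (hy : y ∈ alternatingGroup (Fin 12))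
    (hv : v ∈ alternatingGroup (Fin 12)) (hw : w ∈ alternatingGroup (Fin 12)) (y3 : y * y * y = 1) (y1 : y ≠ 1)
    (v2 : v * v = 1) (v1 : v ≠ 1) (w2 : w * w = 1) (w1 : w ≠ 1) (hne : v ≠ w) (hvw : v * w = w * v)
    (c1 : y * v = v * y) (c2 : y * w = w * y) : ∃ c : G, c * Φ ⟨y, hy⟩ * c⁻¹ = X1 :=
  conj_X1_of_klein (orderOf_three hy y3 y1) (orderOf_two hv v2 v1) (orderOf_two hw w2 w1)
    (fun h => hne (congrArg Subtype.val (Φ_inj h))) (_root_.Cfsg.Agent.CpAutHN.Pairs.comm_of hv hw hvw) (_root_.Cfsg.Agent.CpAutHN.Pairs.comm_of hy hv c1) (_root_.Cfsg.Agent.CpAutHN.Pairs.comm_of hy hw c2)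

theorem conj_u : ∃ c : G, c * Φ ⟨y3, y3_mem⟩ * c⁻¹ = X1 :=
  conj_X1_of_perm (v := cy [6, 7] * cy [8, 9]) (w := cy [6, 8] * cy [7, 9]) y3_mem
    (by rw [mem_alternatingGroup]; decide +kernel) (by rw [mem_alternatingGroup]; decide +kernel)
    (by decide +kernel) (by decide +kernel) (by decide +kernel) (by decide +kernel) (by decide +kernel)
    (by decide +kernel) (by decide +kernel) (by decide +kernel) (by decide +kernel) (by decide +kernel)

theorem conj_w0 : ∃ c : G, c * Φ ⟨sg * x1, mul_mem sg_mem x1_mem⟩ * c⁻¹ = X1 :=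
  conj_X1_of_perm (v := cy [0, 1] * cy [2, 9] * cy [3, 4] * cy [5, 10] * cy [6, 7] * cy [8, 11])
    (w := cy [0, 2] * cy [1, 9] * cy [3, 5] * cy [4, 10] * cy [6, 8] * cy [7, 11]) (mul_mem sg_mem x1_mem)
    (by rw [mem_alternatingGroup]; decide +kernel) (by rw [mem_alternatingGroup]; decide +kernel)
    (by decide +kernel) (by decide +kernel) (by decide +kernel) (by decide +kernel) (by decide +kernel)
    (by decide +kernel) (by decide +kernel) (by decide +kernel) (by decide +kernel) (by decide +kernel)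

theorem conj_w1 : ∃ c : G, c * Φ ⟨y3 * (sg * x1), mul_mem y3_mem (mul_mem sg_mem x1_mem)⟩ * c⁻¹ = X1 :=
  conj_X1_of_perm (v := cy [0, 1] * cy [2, 9] * cy [3, 5] * cy [4, 10] * cy [6, 8] * cy [7, 11])
    (w := cy [0, 2] * cy [1, 9] * cy [3, 10] * cy [4, 5] * cy [6, 11] * cy [7, 8])
    (mul_mem y3_mem (mul_mem sg_mem x1_mem))
    (by rw [mem_alternatingGroup]; decide +kernel) (by rw [mem_alternatingGroup]; decide +kernel)
    (by decide +kernel) (by decide +kernel) (by decide +kernel) (by decide +kernel) (by decide +kernel)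
    (by decide +kernel) (by decide +kernel) (by decide +kernel) (by decide +kernel) (by decide +kernel)

theorem conj_w2 : ∃ c : G, c * Φ ⟨y3 * y3 * (sg * x1), mul_mem (mul_mem y3_mem y3_mem) (mul_mem sg_mem x1_mem)⟩ * c⁻¹ =
    X1 :=
  conj_X1_of_perm (v := cy [0, 1] * cy [2, 9] * cy [3, 10] * cy [4, 5] * cy [6, 11] * cy [7, 8])
    (w := cy [0, 2] * cy [1, 9] * cy [3, 4] * cy [5, 10] * cy [6, 7] * cy [8, 11])
    (mul_mem (mul_mem y3_mem y3_mem) (mul_mem sg_mem x1_mem))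
    (by rw [mem_alternatingGroup]; decide +kernel) (by rw [mem_alternatingGroup]; decide +kernel)
    (by decide +kernel) (by decide +kernel) (by decide +kernel) (by decide +kernel) (by decide +kernel)
    (by decide +kernel) (by decide +kernel) (by decide +kernel) (by decide +kernel) (by decide +kernel)

/-- the three elements of the odd core -/
noncomputable def uu : MM := _root_.Cfsg.Agent.H569.HNThree.mk y3 y3_mem (by decide +kernel)
noncomputable def gg : MM := _root_.Cfsg.Agent.H569.HNThree.mk sg sg_mem (by decide +kernel)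
noncomputable def dd : MM := _root_.Cfsg.Agent.H569.HNThree.mk x1 x1_mem (by decide +kernel)

theorem uu_mem : uu ∈ OO := mk_core _ _ _ (by decide +kernel) (by decide +kernel)
theorem gg_mem : gg ∈ OO := mk_core _ _ _ (by decide +kernel) (by decide +kernel)
theorem dd_mem : dd ∈ OO := mk_core _ _ _ (by decide +kernel) (by decide +kernel)

theorem conj_uu : ∃ c : G, c * (uu : G) * c⁻¹ = X1 := conj_u
theorem conj_dd : ∃ c : G, c * (dd : G) * c⁻¹ = X1 := ⟨1, by rw [one_mul, inv_one, mul_one]; rfl⟩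

theorem conj_ugd (i : ℕ) (hi : i < 3) : ∃ c : G, c * ((uu ^ i * (gg * dd) : MM) : G) * c⁻¹ = X1 := by
  have e1 : ((gg * dd : MM) : G) = Φ ⟨sg * x1, mul_mem sg_mem x1_mem⟩ := by
    rw [Subgroup.coe_mul, show (gg : G) = Φ ⟨sg, sg_mem⟩ from rfl, show (dd : G) = Φ ⟨x1, x1_mem⟩ from rfl, ← map_mul,
      MulMemClass.mk_mul_mk]
  have e2 : (uu : G) = Φ ⟨y3, y3_mem⟩ := rfl
  have hi' : i = 0 ∨ i = 1 ∨ i = 2 := by omega
  rcases hi' with rfl | rfl | rfl
  · rw [pow_zero, one_mul, e1]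
    exact conj_w0
  · rw [pow_one, Subgroup.coe_mul, e1, e2, ← map_mul, MulMemClass.mk_mul_mk]
    exact conj_w1
  · rw [pow_two, Subgroup.coe_mul, Subgroup.coe_mul, e1, e2, ← map_mul, ← map_mul, MulMemClass.mk_mul_mk,
      MulMemClass.mk_mul_mk]
    exact conj_w2

/-- an element of the odd core commutes with a conjugate of `X1` -/
theorem exists_X1 {x : MM} (hx : x ∈ OO) : ∃ y : MM, x * y = y * x ∧ ∃ c : G, c * (y : G) * c⁻¹ = X1 := by
  have key : ∀ {b : MM}, b ∈ OO → ∃ n : ℕ, n < 3 ∧ x * b * x⁻¹ = xx ^ n * b := by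
    intro b hb
    obtain ⟨n, hn⟩ := comm_mod hx hb
    have h3 : (0 : ℤ) < 3 := by norm_num
    refine ⟨(n % 3).toNat, ?_, ?_⟩
    · have h1 := Int.emod_lt_of_pos n h3
      have h2 := Int.emod_nonneg n h3.ne'
      omega
    · rw [hn, ← zpow_natCast, Int.toNat_of_nonneg (Int.emod_nonneg n h3.ne')]
      congr 1
      have h4 := zpow_mod_orderOf xx n
      rw [order_xx] at h4
      exact h4.symm
  obtain ⟨a, ha, hu⟩ := key uu_mem
  obtain ⟨b, hb, hg⟩ := key gg_mem
  obtain ⟨c, hc, hd⟩ := key dd_mem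
  have hx3 : xx ^ 3 = 1 := by rw [← order_xx, pow_orderOf_eq_one]
  have hcx : ∀ (n : ℕ) (m : MM), m * xx ^ n = xx ^ n * m := fun n m =>
    ((show Commute m xx from xx_comm m).pow_right n).eq
  by_cases ha0 : a = 0
  · refine ⟨uu, ?_, conj_uu⟩
    rw [ha0, pow_zero, one_mul, mul_inv_eq_iff_eq_mul] at hu
    exact hu
  by_cases hc0 : c = 0
  · refine ⟨dd, ?_, conj_dd⟩
    rw [hc0, pow_zero, one_mul, mul_inv_eq_iff_eq_mul] at hd
    exact hd
  obtain ⟨i, hi, j, hj⟩ : ∃ i < 3, ∃ j : ℕ, i * a + b + c = 3 * j := by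
    have h1 : ∀ a < 3, ∀ b < 3, ∀ c < 3, a ≠ 0 → ∃ i < 3, ∃ j < 6, i * a + b + c = 3 * j := by decide +kernel
    obtain ⟨i, hi, j, -, h⟩ := h1 a ha b hb c hc ha0
    exact ⟨i, hi, j, h⟩
  refine ⟨uu ^ i * (gg * dd), ?_, conj_ugd i hi⟩
  have h1 : x * uu ^ i * x⁻¹ = xx ^ (i * a) * uu ^ i := by
    rw [← conj_pow, hu, (show Commute (xx ^ a) uu from (hcx a uu).symm).mul_pow, ← pow_mul, mul_comm a i]
  have h2 : x * (uu ^ i * (gg * dd)) * x⁻¹ = uu ^ i * (gg * dd) := by
    calc x * (uu ^ i * (gg * dd)) * x⁻¹ = (x * uu ^ i * x⁻¹) * (x * gg * x⁻¹) * (x * dd * x⁻¹) := by group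
      _ = xx ^ (i * a) * uu ^ i * (xx ^ b * gg) * (xx ^ c * dd) := by rw [h1, hg, hd]
      _ = xx ^ (i * a) * (uu ^ i * xx ^ b) * (gg * xx ^ c) * dd := by group
      _ = xx ^ (i * a) * (xx ^ b * uu ^ i) * (xx ^ c * gg) * dd := by rw [hcx b (uu ^ i), hcx c gg]
      _ = xx ^ (i * a) * xx ^ b * (uu ^ i * xx ^ c) * gg * dd := by group
      _ = xx ^ (i * a) * xx ^ b * (xx ^ c * uu ^ i) * gg * dd := by rw [hcx c (uu ^ i)]
      _ = (xx ^ (i * a) * xx ^ b * xx ^ c) * (uu ^ i * (gg * dd)) := by group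
      _ = uu ^ i * (gg * dd) := by
        rw [← pow_add, ← pow_add, hj, pow_mul, hx3, one_pow, one_mul]
  exact mul_inv_eq_iff_eq_mul.1 h2

end Cfsg.Agent.H478.HNThree
end
end
end
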