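import Mathlib
import Cfsg.Agent.Prune
set_option linter.all false
prune_inst 0x7f00000000000000000000000000000000000000000000000000000000000000000000000000000000000000000000000000000000000000000000000000000000000000000000000000000000000000003fffffffffffffffffffffffffffbeffbdffffffff
open scoped Cfsg.Agent.FastGrp

/-!
# Conjugacy of cyclic `p`-subgroups passes to quotients
-/

set_option autoImplicit false

namespace Cfsg.Agent.H478.CycConjQuot

open Subgroup

/-- A `p`-element of the image lifts to a `p`-element. -/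
theorem exists_lift {G H : Type*} [Group G] [Group H] [Finite G] (f : G →* H) {p : ℕ} (hp : p.Prime)
    (hf : Function.Surjective f) {h : H} {k : ℕ} (hk : orderOf h = p ^ k) :
    ∃ x : G, f x = h ∧ ∃ s : ℕ, orderOf x = p ^ s := by
  obtain ⟨g, rfl⟩ := hf h
  obtain ⟨s, r, hr, hn⟩ := Nat.exists_eq_pow_mul_and_not_dvd (orderOf_pos g).ne' p hp.ne_one
  have hco : Nat.Coprime r (p ^ k) := Nat.Coprime.pow_right k ((Nat.Prime.coprime_iff_not_dvd hp).2 hr).symm
  obtain ⟨u, hu⟩ := Nat.exists_mul_mod_eq_of_coprime (n := r) (k := p ^ k) 1 hco (pow_pos hp.pos k).ne'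
  refine ⟨g ^ (r * u), ?_, ?_⟩
  · rw [map_pow]
    conv_rhs => rw [← pow_one (f g)]
    rw [pow_eq_pow_iff_modEq, hk]
    exact hu.2
  · have : orderOf (g ^ (r * u)) ∣ p ^ s := by
      apply orderOf_dvd_of_pow_eq_one
      rw [← pow_mul, show r * u * p ^ s = orderOf g * u by rw [hn]; ring, pow_mul, pow_orderOf_eq_one, one_pow]
    obtain ⟨m, -, hm⟩ := (Nat.dvd_prime_pow hp).1 this
    exact ⟨m, hm⟩

/-- If cyclic `p`-subgroups of equal order of the finite group `G` are conjugate, the same holds for every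
quotient of `G`. -/
theorem quot {G H : Type*} [Group G] [Finite G] [Group H] (f : G →* H) (hf : Function.Surjective f)
    {p : ℕ} (hp : p.Prime)
    (hP : ∀ A B : Subgroup G, IsCyclic ↥A → IsCyclic ↥B → IsPGroup p ↥A → Nat.card ↥A = Nat.card ↥B →
      ∃ g : G, B = A.map (MulAut.conj g).toMonoidHom) :
    ∀ A B : Subgroup H, IsCyclic ↥A → IsCyclic ↥B → IsPGroup p ↥A → Nat.card ↥A = Nat.card ↥B →
      ∃ g : H, B = A.map (MulAut.conj g).toMonoidHom := by
  have : Fact p.Prime := ⟨hp⟩
  have : Finite H := Finite.of_surjective f hf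
  -- one direction
  have key : ∀ (a b : H) (k : ℕ) (x y : G) (s t : ℕ), orderOf a = p ^ k → orderOf b = p ^ k →
      f x = a → f y = b → orderOf x = p ^ s → orderOf y = p ^ t → s ≤ t →
      ∃ g : H, zpowers b = (zpowers a).map (MulAut.conj g).toMonoidHom := by
    intro a b k x y s t ha hb hx hy hs ht hst
    have hy' : orderOf (y ^ (p ^ (t - s))) = p ^ s := by
      rw [orderOf_pow_of_dvd (pow_pos hp.pos _).ne' (by rw [ht]; exact pow_dvd_pow p (by omega)), ht,
        Nat.pow_div (by omega) hp.pos]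
      congr 1
      omega
    obtain ⟨g, hg⟩ := hP (zpowers x) (zpowers (y ^ (p ^ (t - s)))) inferInstance inferInstance
      (IsPGroup.of_card (n := s) (by rw [Nat.card_zpowers, hs]))
      (by rw [Nat.card_zpowers, Nat.card_zpowers, hs, hy'])
    refine ⟨f g, ?_⟩
    have h1 := congrArg (Subgroup.map f) hg
    rw [MonoidHom.map_zpowers, map_pow, hy, Subgroup.map_map] at h1
    have h2 : f.comp (MulAut.conj g).toMonoidHom = (MulAut.conj (f g)).toMonoidHom.comp f := by
      ext z; simp
    rw [h2, ← Subgroup.map_map, MonoidHom.map_zpowers, hx] at h1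
    rw [← h1]
    symm
    apply Subgroup.eq_of_le_of_card_ge
    · rw [zpowers_le]; exact pow_mem (mem_zpowers b) _
    · rw [h1, Nat.card_congr ((zpowers a).equivMapOfInjective _ (MulAut.conj (f g)).injective).toEquiv.symm,
        Nat.card_zpowers, Nat.card_zpowers, ha, hb]
  intro A B hA hB hAp hcard
  obtain ⟨a, ha⟩ := (Subgroup.isCyclic_iff_exists_zpowers_eq_top A).1 hA
  obtain ⟨b, hb⟩ := (Subgroup.isCyclic_iff_exists_zpowers_eq_top B).1 hB
  obtain ⟨k, hk⟩ := hAp.exists_card_eq
  have hao : orderOf a = p ^ k := by rw [← Nat.card_zpowers, ha, hk]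
  have hbo : orderOf b = p ^ k := by rw [← Nat.card_zpowers, hb, ← hcard, hk]
  obtain ⟨x, hx, s, hs⟩ := exists_lift f hp hf hao
  obtain ⟨y, hy, t, ht⟩ := exists_lift f hp hf hbo
  rw [← ha, ← hb]
  rcases le_total s t with h | h
  · exact key a b k x y s t hao hbo hx hy hs ht h
  · obtain ⟨g, hg⟩ := key b a k y x t s hbo hao hy hx ht hs h
    refine ⟨g⁻¹, ?_⟩
    rw [hg, Subgroup.map_map]
    have : (MulAut.conj g⁻¹).toMonoidHom.comp (MulAut.conj g).toMonoidHom = MonoidHom.id H := by
      ext z; simp [mul_assoc]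
    rw [this, Subgroup.map_id]

end Cfsg.Agent.H478.CycConjQuot
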