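import Cfsg.Prelude.Def_Local
import Cfsg.Agent.S0205
import Cfsg.Agent.SignalizersComponents.Components
import Cfsg.Agent.FastGrp
import Cfsg.Agent.Prune
set_option linter.all false
prune_inst 0x7f00000000000000000000000000000000000000000000000000000000000000000000000000000000000000000000000000000000000000000000000000000000000000000000000000000000000000003fffffffffffffffffffffffffffbeffbdffffffff
open scoped Cfsg.Agent.FastGrp

/-!
# Finite groups whose cyclic 2-subgroups of equal order are conjugate: at most one component

`exists_two_elt`: a finite quasisimple group has a noncentral element of 2-power order (Feit-Thompson).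
`component_unique`: if all cyclic 2-subgroups of the same order of a finite group are conjugate, there is at
most one component.
-/

set_option autoImplicit false

namespace Cfsg.Agent.H478.CycConj

open Cfsg Subgroup Cfsg.Agent.SignalizersComponents.Components

/-- A finite quasisimple group has a noncentral element of 2-power order. -/
theorem exists_two_elt {L : Type*} [Group L] [Finite L] (hL : IsQuasisimple L) :
    ∃ x : L, x ∉ center L ∧ ∃ k : ℕ, orderOf x = 2 ^ k := by
  by_contra hcon
  push Not at hcon
  have : Fact (Nat.Prime 2) := ⟨Nat.prime_two⟩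
  obtain ⟨P⟩ := (inferInstance : Nonempty (Sylow 2 L))
  have hPZ : (P : Subgroup L) ≤ center L := by
    intro x hx
    by_contra hxc
    obtain ⟨k, hk⟩ := (IsPGroup.iff_orderOf.1 P.isPGroup') ⟨x, hx⟩
    rw [← Subgroup.orderOf_coe] at hk
    exact hcon x hxc k hk
  have hodd : Odd (Nat.card (L ⧸ center L)) := by
    rw [← Nat.not_even_iff_odd, even_iff_two_dvd]
    intro h2
    apply P.not_dvd_index
    exact h2.trans (Subgroup.index_dvd_of_le hPZ)
  have hs : Group.IsSolvable (L ⧸ center L) := Cfsg.Agent.S0205.result hodd
  have hL1 := hL.1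
  have hp : Group.IsPerfect (L ⧸ center L) :=
    Group.IsPerfect.ofSurjective (f := QuotientGroup.mk' (center L)) (QuotientGroup.mk'_surjective _)
  have := hL.2.toNontrivial
  exact Group.IsPerfect.not_isSolvable (L ⧸ center L) hs

/-- **At most one component.** -/
theorem component_unique {G : Type*} [Group G] [Finite G]
    (hP : ∀ A B : Subgroup G, IsCyclic ↥A → IsCyclic ↥B → IsPGroup 2 ↥A → Nat.card ↥A = Nat.card ↥B →
      ∃ g : G, B = A.map (MulAut.conj g).toMonoidHom)
    {K L : Subgroup G} (hK : IsComponent K) (hL : IsComponent L) : K = L := by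
  by_contra hne
  obtain ⟨x, hxc, i, hi⟩ := exists_two_elt hK.2
  obtain ⟨y, hyc, j, hj⟩ := exists_two_elt hL.2
  have key : ∀ (K L : Subgroup G) (hK : IsComponent K) (hL : IsComponent L) (hne : K ≠ L)
      (x : K) (hxc : x ∉ center K) (y : L) (hyc : y ∉ center L) (i j : ℕ) (hij : j ≤ i)
      (hi : orderOf x = 2 ^ i) (hj : orderOf y = 2 ^ j), False := by
    clear hne hi hj hxc hyc x y i j hK hL K L
    intro K L hK hL hne x hxc y hyc i j hij hi hj
    have hcomm : ∀ a ∈ K, ∀ b ∈ L, a * b = b * a := by
      intro a ha b hb
      exact ((mem_centralizer_iff.1 (component_le_centralizer_of_ne hK hL hne ha)) b hb).symm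
    rw [← Subgroup.orderOf_coe] at hi hj
    have hxy : Commute (x : G) (y : G) := hcomm x x.2 y y.2
    have hpow : ((x : G) * y) ^ (2 ^ i) = 1 := by
      rw [hxy.mul_pow, ← hi, pow_orderOf_eq_one, one_mul, hi]
      obtain ⟨c, rfl⟩ := Nat.exists_eq_add_of_le hij
      rw [pow_add, pow_mul, ← hj, pow_orderOf_eq_one, one_pow]
    obtain ⟨m, hm, hm2⟩ := (Nat.dvd_prime_pow Nat.prime_two).1 (orderOf_dvd_of_pow_eq_one hpow)
    -- the element of `⟨x⟩` of the same order
    have hb : orderOf ((x : G) ^ (2 ^ (i - m))) = 2 ^ m := by
      rw [orderOf_pow_of_dvd (by positivity) (by rw [hi]; exact pow_dvd_pow 2 (by omega)), hi,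
        Nat.pow_div (by omega) (by norm_num)]
      congr 1
      omega
    obtain ⟨g, hg⟩ := hP (zpowers ((x : G) * y)) (zpowers ((x : G) ^ (2 ^ (i - m))))
      inferInstance inferInstance
      (IsPGroup.of_card (n := m) (by rw [Nat.card_zpowers, hm2]))
      (by rw [Nat.card_zpowers, Nat.card_zpowers, hm2, hb])
    have hB : zpowers ((x : G) ^ (2 ^ (i - m))) ≤ K := by
      rw [zpowers_le]; exact pow_mem x.2 _
    have hgK : ∀ M : Subgroup G, IsComponent M →
        (∃ a ∈ M, a * ((x : G) * y) ≠ ((x : G) * y) * a) → M.map (MulAut.conj g).toMonoidHom = K := by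
      intro M hM ⟨a, ha, hane⟩
      by_contra hMK
      apply hane
      have h1 := component_le_centralizer_of_ne (isComponent_conj g hM) hK hMK
      have h2 : (MulAut.conj g) a ∈ M.map (MulAut.conj g).toMonoidHom := ⟨a, ha, rfl⟩
      have h3 : (MulAut.conj g) ((x : G) * y) ∈ K := by
        apply hB
        rw [hg]
        exact ⟨(x : G) * y, mem_zpowers _, rfl⟩
      have h4 := (mem_centralizer_iff.1 (h1 h2)) _ h3
      rw [← map_mul, ← map_mul] at h4
      exact ((MulAut.conj g).injective h4).symm
    have hKK : K.map (MulAut.conj g).toMonoidHom = K := by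
      apply hgK K hK
      by_contra hcon
      push Not at hcon
      apply hxc
      rw [mem_center_iff]
      intro a
      apply Subtype.ext
      have h1 := hcon a a.2
      have h2 := hcomm a a.2 y y.2
      have h3 : (a : G) * x * y = x * a * y := by
        calc (a : G) * x * y = a * (x * y) := by group
          _ = x * y * a := h1
          _ = x * (y * a) := by group
          _ = x * (a * y) := by rw [h2]
          _ = x * a * y := by group
      exact mul_right_cancel h3
    have hLK : L.map (MulAut.conj g).toMonoidHom = K := by
      apply hgK L hL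
      by_contra hcon
      push Not at hcon
      apply hyc
      rw [mem_center_iff]
      intro a
      apply Subtype.ext
      have h1 := hcon a a.2
      have h2 := hcomm x x.2 a a.2
      have h3 : (x : G) * (a * y) = x * (y * a) := by
        calc (x : G) * (a * y) = x * a * y := by group
          _ = a * x * y := by rw [h2]
          _ = a * (x * y) := by group
          _ = x * y * a := h1
          _ = x * (y * a) := by group
      exact mul_left_cancel h3
    apply hne
    exact Subgroup.map_injective (MulAut.conj g).injective (hKK.trans hLK.symm)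
  rcases le_total j i with h | h
  · exact key K L hK hL hne x hxc y hyc i j h hi hj
  · exact key L K hL hK (Ne.symm hne) y hyc x hxc j i h hj hi

/-- If `G` has a component and cyclic 2-subgroups of equal order are conjugate, the layer is quasisimple. -/
theorem isQuasisimple_layer {G : Type*} [Group G] [Finite G]
    (hP : ∀ A B : Subgroup G, IsCyclic ↥A → IsCyclic ↥B → IsPGroup 2 ↥A → Nat.card ↥A = Nat.card ↥B →
      ∃ g : G, B = A.map (MulAut.conj g).toMonoidHom) (hE : layer G ≠ ⊥) : IsQuasisimple ↥(layer G) := by
  have hex : ∃ K : Subgroup G, IsComponent K := by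
    by_contra hcon
    push Not at hcon
    apply hE
    rw [eq_bot_iff, layer_le_iff]
    intro K hK
    exact absurd hK (hcon K)
  obtain ⟨K, hK⟩ := hex
  have : layer G = K := by
    apply le_antisymm
    · rw [layer_le_iff]
      intro L hL
      exact (component_unique hP hL hK).le
    · exact component_le_layer hK
  rw [this]
  exact hK.2

theorem simple_quotient {L : Type*} [Group L] (hL : IsQuasisimple L) :
    IsSimpleGroup (L ⧸ center L) ∧ ¬ IsMulCommutative (L ⧸ center L) := by
  refine ⟨hL.2, ?_⟩
  intro hc
  have hL1 := hL.1
  have hp : Group.IsPerfect (L ⧸ center L) :=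
    Group.IsPerfect.ofSurjective (f := QuotientGroup.mk' (center L)) (QuotientGroup.mk'_surjective _)
  have := hL.2.toNontrivial
  exact Group.IsPerfect.not_isSolvable (L ⧸ center L) inferInstance

end Cfsg.Agent.H478.CycConj
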